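import Groth.Agent.Curves.K332.CSpan
import Mathlib.RingTheory.MvPolynomial.MonomialOrder
import Mathlib.Data.Prod.Lex
import Mathlib.Algebra.Order.Monoid.Prod
import Mathlib.Algebra.MvPolynomial.Degrees
/-!
# The case n = 3: the normal monomials are a basis of `CurveAlg3`.
-/
set_option autoImplicit false
set_option linter.all false
universe u v w

open MvPolynomial W4c5m1nsnscurves K332.UBasic K332.CSpan

namespace K332.CBase

/-- The monomial order on two variables: compare the exponent of `X 1`, then that of `X 0`. -/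
noncomputable def mo : MonomialOrder (Fin 2) where
  syn := ℕ ×ₗ ℕ
  toSyn :=
    { toFun := fun c => toLex (c 1, c 0)
      invFun := fun p => Finsupp.single 0 (ofLex p).2 + Finsupp.single 1 (ofLex p).1
      left_inv := fun c => by
        ext i; fin_cases i <;> simp
      right_inv := fun p => by
        simp
      map_add' := fun a b => rfl }
  toSyn_monotone := fun a b h => by
    change toLex (a 1, a 0) ≤ toLex (b 1, b 0)
    exact Prod.Lex.toLex_mono ⟨h 1, h 0⟩
  wellFoundedLT_syn := by infer_instance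

theorem mo_lt_iff {a b : Fin 2 →₀ ℕ} : mo.toSyn a < mo.toSyn b ↔ a 1 < b 1 ∨ (a 1 = b 1 ∧ a 0 < b 0) := by
  change toLex (a 1, a 0) < toLex (b 1, b 0) ↔ _
  rw [Prod.Lex.toLex_lt_toLex]

variable (R : Type u) [CommRing R] (a b c d : R)

/-- The exponent of the leading monomial. -/
noncomputable def D : Fin 2 →₀ ℕ := Finsupp.single 0 1 + Finsupp.single 1 2

/-- The cubic polynomial. -/
noncomputable def F3 : MvPolynomial (Fin 2) R :=
  X 0 * X 1 ^ 2 - X 0 ^ 2 * X 1 - (C a * X 0 * X 1 + C b * X 0 + C c * X 1 + C d)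

theorem F3_eq : F3 R a b c d = monomial D 1 - (X 0 ^ 2 * X 1 + (C a * X 0 * X 1 + C b * X 0 + C c * X 1 + C d)) := by
  have : (monomial D (1 : R)) = X 0 * X 1 ^ 2 := by
    rw [D, monomial_eq, Finsupp.prod_add_index', Finsupp.prod_single_index, Finsupp.prod_single_index]
    · simp
    · simp
    · simp
    · intro i; simp
    · intro i j k; rw [pow_add]
  rw [this, F3]; ring

theorem degreeOf_tail [Nontrivial R] :
    degreeOf 1 (X 0 ^ 2 * X 1 + (C a * X 0 * X 1 + C b * X 0 + C c * X 1 + C d) : MvPolynomial (Fin 2) R) ≤ 1 := by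
  have h0 : degreeOf 1 (X 0 : MvPolynomial (Fin 2) R) = 0 := degreeOf_X_of_ne (by decide)
  have h1 : degreeOf 1 (X 1 : MvPolynomial (Fin 2) R) = 1 := degreeOf_X_self 1
  have e1 : degreeOf 1 (X 0 ^ 2 * X 1 : MvPolynomial (Fin 2) R) ≤ 1 := by
    refine (degreeOf_mul_le _ _ _).trans ?_
    have := degreeOf_pow_le (1 : Fin 2) (X 0 : MvPolynomial (Fin 2) R) 2
    omega
  have e2 : degreeOf 1 (C a * X 0 * X 1 : MvPolynomial (Fin 2) R) ≤ 1 := by
    refine (degreeOf_mul_le _ _ _).trans ?_
    have := degreeOf_C_mul_le (X 0 : MvPolynomial (Fin 2) R) (1 : Fin 2) a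
    omega
  have e3 : degreeOf 1 (C b * X 0 : MvPolynomial (Fin 2) R) ≤ 1 := by
    have := degreeOf_C_mul_le (X 0 : MvPolynomial (Fin 2) R) (1 : Fin 2) b
    omega
  have e4 : degreeOf 1 (C c * X 1 : MvPolynomial (Fin 2) R) ≤ 1 := by
    have := degreeOf_C_mul_le (X 1 : MvPolynomial (Fin 2) R) (1 : Fin 2) c
    omega
  have e5 : degreeOf 1 (C d : MvPolynomial (Fin 2) R) ≤ 1 := by rw [degreeOf_C]; omega
  refine (degreeOf_add_le _ _ _).trans (max_le e1 ?_)
  refine (degreeOf_add_le _ _ _).trans (max_le ?_ e5)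
  refine (degreeOf_add_le _ _ _).trans (max_le ?_ e4)
  refine (degreeOf_add_le _ _ _).trans (max_le e2 e3)

theorem degree_lt [Nontrivial R] :
    mo.toSyn (mo.degree (X 0 ^ 2 * X 1 + (C a * X 0 * X 1 + C b * X 0 + C c * X 1 + C d) : MvPolynomial (Fin 2) R)) <
      mo.toSyn (mo.degree (monomial D (1 : R))) := by
  classical
  rw [MonomialOrder.degree_monomial, if_neg one_ne_zero, MonomialOrder.degree_lt_iff]
  · intro e he
    rw [mo_lt_iff]
    left
    have h1 := (monomial_le_degreeOf 1 he).trans (degreeOf_tail R a b c d)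
    have : (D : Fin 2 →₀ ℕ) 1 = 2 := by simp [D]
    omega
  · rw [mo_lt_iff]
    left
    simp [D]

theorem degree_F3 [Nontrivial R] : mo.degree (F3 R a b c d) = D := by
  classical
  rw [F3_eq, MonomialOrder.degree_sub_of_lt (degree_lt R a b c d), MonomialOrder.degree_monomial, if_neg one_ne_zero]

theorem leadingCoeff_F3 [Nontrivial R] : mo.leadingCoeff (F3 R a b c d) = 1 := by
  rw [F3_eq, MonomialOrder.leadingCoeff_sub_of_lt (degree_lt R a b c d), MonomialOrder.leadingCoeff_monomial]

/-- Exponents of the normal monomials. -/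
noncomputable def expo : Option (ℕ ⊕ (Fin 2 × ℕ)) → (Fin 2 →₀ ℕ)
  | none => 0
  | some (Sum.inl k) => Finsupp.single 0 (k + 1) + Finsupp.single 1 1
  | some (Sum.inr (y, k)) => Finsupp.single y (k + 1)

theorem expo_inj : Function.Injective expo := by
  intro s t h
  have h0 := DFunLike.congr_fun h 0
  have h1 := DFunLike.congr_fun h 1
  rcases s with _ | k | ⟨y, k⟩ <;> rcases t with _ | l | ⟨z, l⟩
  · rfl
  · simp [expo] at h1
  · fin_cases z <;> simp [expo] at h0 h1
  · simp [expo] at h1
  · simp [expo] at h0; rw [h0]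
  · fin_cases z <;> simp [expo] at h0 h1
  · fin_cases y <;> simp [expo] at h0 h1
  · fin_cases y <;> simp [expo] at h0 h1
  · fin_cases y <;> fin_cases z <;> simp [expo] at h0 h1
    · rw [h0]
    · rw [h1]

theorem not_D_le (s : Option (ℕ ⊕ (Fin 2 × ℕ))) : ¬ D ≤ expo s := by
  intro h
  have h0 := h 0
  have h1 := h 1
  rcases s with _ | k | ⟨y, k⟩
  · simp [expo, D] at h0
  · simp [expo, D] at h1
  · fin_cases y <;> simp [expo, D] at h0 h1

theorem cmon3_eq (s : Option (ℕ ⊕ (Fin 2 × ℕ))) :
    cmon3 R a b c d s = Ideal.Quotient.mk _ (monomial (expo s) 1) := by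
  rcases s with _ | k | ⟨y, k⟩
  · simp only [cmon3, expo, monomial_zero', C_1, map_one]
  · simp only [cmon3, expo]
    congr 1
    rw [monomial_eq, Finsupp.prod_add_index', Finsupp.prod_single_index, Finsupp.prod_single_index]
    · simp
    · simp
    · simp
    · intro i; simp
    · intro i j k; rw [pow_add]
  · simp only [cmon3, expo]
    congr 1
    rw [X_pow_eq_monomial]

theorem linInd3 : LinearIndependent R (cmon3 R a b c d) := by
  classical
  nontriviality R
  rw [linearIndependent_iff]
  intro l hl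
  have hP : Finsupp.linearCombination R (cmon3 R a b c d) l =
      Ideal.Quotient.mk _ (Finsupp.linearCombination R (fun s => (monomial (expo s) (1 : R))) l) := by
    simp only [Finsupp.linearCombination_apply, Finsupp.sum]
    rw [map_sum]
    refine Finset.sum_congr rfl fun s _ => ?_
    rw [cmon3_eq]
    rfl
  rw [hP, Ideal.Quotient.eq_zero_iff_mem, Ideal.mem_span_singleton'] at hl
  obtain ⟨q, hq⟩ := hl
  have hz : Finsupp.linearCombination R (fun s => (monomial (expo s) (1 : R))) l = 0 := by
    by_contra hne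
    have hq0 : q ≠ 0 := by
      rintro rfl; rw [zero_mul] at hq; exact hne hq.symm
    have hcoef := MonomialOrder.coeff_mul_of_degree_add (m := mo) (f := q) (g := F3 R a b c d)
    rw [leadingCoeff_F3, degree_F3, mul_one] at hcoef
    have hq' : q * F3 R a b c d = Finsupp.linearCombination R (fun s => (monomial (expo s) (1 : R))) l := hq
    rw [hq', Finsupp.linearCombination_apply, Finsupp.sum, coeff_sum] at hcoef
    have hz : ∑ s ∈ l.support, coeff (mo.degree q + D) (l s • (monomial (expo s) (1 : R))) = 0 := by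
      refine Finset.sum_eq_zero fun s _ => ?_
      rw [coeff_smul, coeff_monomial, if_neg, smul_zero]
      intro e
      exact not_D_le s (e ▸ le_add_self)
    rw [hz] at hcoef
    exact hq0 (MonomialOrder.leadingCoeff_eq_zero_iff.mp hcoef.symm)
  have hli : LinearIndependent R (fun s => (monomial (expo s) (1 : R))) := by
    have h1 := (basisMonomials (Fin 2) R).linearIndependent
    have h2 := h1.comp expo expo_inj
    convert h2 using 1
    funext s
    simp
  exact linearIndependent_iff.mp hli l hz

end K332.CBase
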