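import Groth.Agent.Curves.K332.CStep
/-!
# The inductive step and the basis theorem
-/
set_option autoImplicit false
set_option linter.all false
universe u v w

open MvPolynomial W4c5m1nsnscurves K332.UBasic K332.CSpan K332.CBase K332.COps K332.CInd K332.CStep

namespace K332.CFin

section step
variable {R : Type u} [CommRing R] {m : ℕ} {v : UGen (m + 1) → R}

theorem map_eval' {B : Type v} [CommRing B] (f : R →+* B) (y : CVar m) : f (eval' v y) = eval' (fun g => f (v g)) y := by
  rcases y with _ | _ | i <;> simp [eval']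

theorem eval'_eq (v : UGen (m + 1) → R) : eval' v =
    xext (fun g => v g.castSucc) (v (.ci (Fin.last m))) (v (.cbi (Fin.last m)))
      (fun i => v (.cij i.castSucc (Fin.last m) (Fin.castSucc_lt_last i).ne)) := by
  funext y
  rcases y with _ | _ | i <;> rfl

/-- The abstract step: `B` with the relations of the curve for `m` points. -/
theorem exists_maps (hv : UPoint v) {d : R} (hd : d = dval v (Fin.last m)) {B : Type v} [CommRing B] [Algebra R B]
    (y : CVar m → B) (hs : Function.Surjective (aeval (R := R) y))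
    (hk : ∀ p, aeval y p = 0 → p ∈ Ideal.span (QRel (fun g : UGen m => v g.castSucc) d))
    (h0 : ∀ p ∈ QRel (fun g : UGen m => v g.castSucc) d, aeval y p = 0) :
    ∃ (ε : B →ₐ[R] R) (f : B →ₗ[R] B),
      (∀ i, ε (y i) = eval' v i) ∧
      (∀ i, f (y i) = bval (fun g => algebraMap R B (v g)) y i) ∧
      ∀ p q, f (p * q) = p * f q + ε q • f p := by
  have hvB' : UPoint (fun g => algebraMap R B (v g)) := hv.map (algebraMap R B)
  have hyc : CPoint (fun g : UGen m => algebraMap R B (v g.castSucc)) y :=
    (cpoint_iff (fun g : UGen m => v g.castSucc) y).mpr fun p hp => h0 p (Set.mem_insert_of_mem _ hp)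
  have hcub : y .x2 * y .x3 ^ 2 = y .x2 ^ 2 * y .x3 + algebraMap R B (v .a) * y .x2 * y .x3 +
      (algebraMap R B (v .cb) - algebraMap R B (v .c)) * y .x2 +
      algebraMap R B (v .c) * y .x3 + dval (fun g => algebraMap R B (v g)) (Fin.last m) := by
    have h := (aeval_cubicPoly (fun g : UGen m => v g.castSucc) d y).mp (h0 _ (Set.mem_insert _ _))
    have hd' : algebraMap R B d = dval (fun g => algebraMap R B (v g)) (Fin.last m) := by
      rw [hd]; simp only [dval, map_sub, map_add, map_mul]
    rw [← hd', h, map_sub]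
    rfl
  have e2 : ∀ i, algebraMap R B (eval' v i) = eval' (fun g => algebraMap R B (v g)) i :=
    fun i => map_eval' (algebraMap R B) i
  have hb : ∀ i j, (y i - algebraMap R B (eval' v i)) * bval (fun g => algebraMap R B (v g)) y j =
      (y j - algebraMap R B (eval' v j)) * bval (fun g => algebraMap R B (v g)) y i := by
    intro i j
    rw [e2, e2]
    rcases i with _ | _ | i <;> rcases j with _ | _ | j
    · exact rfl
    · exact s23 hvB' hyc hcub
    · exact s2i hvB' hyc hcub j
    · exact (s23 hvB' hyc hcub).symm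
    · exact rfl
    · exact s3i hvB' hyc hcub j
    · exact (s2i hvB' hyc hcub i).symm
    · exact (s3i hvB' hyc hcub i).symm
    · by_cases h : i = j
      · rw [h]
      · exact sij hvB' hyc hcub i j h
  refine exists_eder (QRel (fun g : UGen m => v g.castSucc) d) hs hk h0 hb ?_ ?_
  · intro g hg
    rcases hg with rfl | hg
    · rw [aeval_cubicPoly, Cubic]
      simp only [eval', Algebra.algebraMap_self, RingHom.id_apply, hd, dval, UGen.castSucc]
      ring
    · refine (cpoint_iff (fun g : UGen m => v g.castSucc) (eval' v)).mp ?_ g hg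
      have h1 := cpoint_of_upoint hv
      rw [eval'_eq]
      exact h1
  · intro g hg
    rcases hg with rfl | hg
    · have h4 := f4 hvB' hyc hcub
      simp only [cubicPoly, pow_two, map_sub, map_add, eder_mul, eder_X, eder_C, aeval_X, aeval_C, smul_zero, add_zero,
        Algebra.smul_def, e2, map_mul, Algebra.algebraMap_self, RingHom.id_apply, mul_zero, UGen.castSucc]
      linear_combination h4
    · rcases hg with (⟨i, rfl⟩ | ⟨i, rfl⟩) | ⟨q, rfl⟩
      · have h4 := f1 hvB' hyc hcub i
        simp only [map_sub, map_add, eder_mul, eder_X, eder_C, aeval_X, aeval_C, smul_zero, add_zero,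
          Algebra.smul_def, e2, map_mul, Algebra.algebraMap_self, RingHom.id_apply, mul_zero, UGen.castSucc]
        linear_combination h4
      · have h4 := f2 hvB' hyc hcub i
        simp only [map_sub, map_add, eder_mul, eder_X, eder_C, aeval_X, aeval_C, smul_zero, add_zero,
          Algebra.smul_def, e2, map_mul, Algebra.algebraMap_self, RingHom.id_apply, mul_zero, UGen.castSucc]
        linear_combination h4
      · have h4 := f3 hvB' hyc hcub q.1.1 q.1.2 q.2
        simp only [map_sub, map_add, eder_mul, eder_X, eder_C, aeval_X, aeval_C, smul_zero, add_zero,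
          Algebra.smul_def, e2, map_mul, Algebra.algebraMap_self, RingHom.id_apply, mul_zero, UGen.castSucc]
        linear_combination h4

/-- The operators of the variables. -/
noncomputable def TT {B : Type v} [CommRing B] [Algebra R B] (ε : B →ₐ[R] R) (f : B →ₗ[R] B)
    (y : CVar m → B) : CVar (m + 1) → Module.End R (B × (ℕ →₀ R))
  | .x2 => bop ε f (y .x2)
  | .x3 => bop ε f (y .x3)
  | .xi i => if h : i = Fin.last m then xop ε f else bop ε f (y (.xi (i.castPred h)))

section
variable {B : Type v} [CommRing B] [Algebra R B] {ε : B →ₐ[R] R} {f : B →ₗ[R] B} {y : CVar m → B}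

theorem TT_last : TT ε f y (.xi (Fin.last m)) = xop ε f := by simp [TT]

theorem TT_cast (i : Fin m) : TT ε f y (.xi i.castSucc) = bop ε f (y (.xi i)) := by
  simp [TT, (Fin.castSucc_lt_last i).ne]

theorem TT_eq (w : CVar (m + 1)) : TT ε f y w = xop ε f ∨ ∃ c, TT ε f y w = bop ε f c := by
  rcases w with _ | _ | i
  · exact Or.inr ⟨_, rfl⟩
  · exact Or.inr ⟨_, rfl⟩
  · induction i using Fin.lastCases with
    | last => exact Or.inl TT_last
    | cast i => exact Or.inr ⟨_, TT_cast i⟩

theorem TT_comm (hf : ∀ p q, f (p * q) = p * f q + ε q • f p) (w w' : CVar (m + 1)) :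
    TT ε f y w * TT ε f y w' = TT ε f y w' * TT ε f y w := by
  rcases TT_eq (ε := ε) (f := f) (y := y) w with h | ⟨c, h⟩ <;>
    rcases TT_eq (ε := ε) (f := f) (y := y) w' with h' | ⟨c', h'⟩ <;> rw [h, h']
  · rw [bop_xop hf]
  · rw [bop_xop hf]
  · rw [bop_mul hf, bop_mul hf, mul_comm]

theorem bop_algebraMap (hf : ∀ p q, f (p * q) = p * f q + ε q • f p) (r : R) :
    bop ε f (algebraMap R B r) = algebraMap R _ r := (bopHom hf).commutes r

theorem bop_sub (hf : ∀ p q, f (p * q) = p * f q + ε q • f p) (c d : B) :
    bop ε f (c - d) = bop ε f c - bop ε f d := map_sub (bopHom hf) c d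

theorem opHom_QRel (hf : ∀ p q, f (p * q) = p * f q + ε q • f p) {d : R}
    (h0 : ∀ p ∈ QRel (fun g : UGen m => v g.castSucc) d, aeval y p = 0)
    (hε : ∀ i, ε (y i) = eval' v i) (hf1 : ∀ i, f (y i) = bval (fun g => algebraMap R B (v g)) y i)
    {p : MvPolynomial (CVar (m + 1)) R} (hp : p ∈ QRel v d) :
    opHom (TT ε f y) (TT_comm hf) p = 0 := by
  have hyc : CPoint (fun g : UGen m => algebraMap R B (v g.castSucc)) y :=
    (cpoint_iff (fun g : UGen m => v g.castSucc) y).mpr fun p hp => h0 p (Set.mem_insert_of_mem _ hp)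
  have hcub := (aeval_cubicPoly (fun g : UGen m => v g.castSucc) d y).mp (h0 _ (Set.mem_insert _ _))
  have hC : ∀ r : R, opHom (TT ε f y) (TT_comm hf) (C r) = bop ε f (algebraMap R B r) := by
    intro r
    rw [bop_algebraMap hf]
    exact (opHom (TT ε f y) (TT_comm hf)).commutes r
  have hCx : ∀ (r : R), bop ε f (algebraMap R B r) * xop ε f = r • xop ε f := by
    intro r; rw [bop_algebraMap hf, Algebra.smul_def]
  have e2 : TT ε f y .x2 = bop ε f (y .x2) := rfl
  have e3 : TT ε f y .x3 = bop ε f (y .x3) := rfl
  rcases hp with rfl | hp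
  · simp only [cubicPoly, map_sub, map_add, map_mul, map_pow, opHom_X, hC, e2, e3, pow_two, bop_mul hf,
      ← bop_add, ← bop_sub hf]
    rw [Cubic] at hcub
    have : y .x2 * (y .x3 * y .x3) - (y .x2 * y .x2 * y .x3 + algebraMap R B (v .a) * y .x2 * y .x3 +
        (algebraMap R B (v .cb) - algebraMap R B (v .c)) * y .x2 + algebraMap R B (v .c) * y .x3 + algebraMap R B d) = 0 := by
      simp only [UGen.castSucc, map_sub] at hcub
      linear_combination hcub
    rw [this]
    exact map_zero (bopHom hf)
  · rcases hp with (⟨i, rfl⟩ | ⟨i, rfl⟩) | ⟨⟨⟨i, j⟩, hij⟩, rfl⟩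
    · induction i using Fin.lastCases with
      | last =>
        simp only [map_sub, map_add, map_mul, opHom_X, hC, e2, e3, TT_last]
        rw [bop_mul_xop hf, hε, hf1, hCx]
        simp only [bop_mul hf, eval', bval]
        rw [bop_sub hf, bop_add]
        abel
      | cast i =>
        simp only [map_sub, map_add, map_mul, opHom_X, hC, e2, e3, TT_cast, bop_mul hf, ← bop_add, ← bop_sub hf]
        have := hyc.r2 i
        simp only [UGen.castSucc] at this
        refine (congrArg (bop ε f) (?_ : _ = (0:B))).trans (map_zero (bopHom hf))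
        linear_combination this
    · induction i using Fin.lastCases with
      | last =>
        simp only [map_sub, map_add, map_mul, opHom_X, hC, e2, e3, TT_last]
        rw [bop_mul_xop hf, hε, hf1, ← hCx]
        have hms : ∀ U V W : Module.End R (B × (ℕ →₀ R)), U * (V - W) = U * V - U * W := fun U V W => mul_sub U V W
        simp only [eval', bval, map_add, bop_add, bop_sub hf, ← bop_mul hf, add_mul]
        rw [hms, hms, hms]
        abel
      | cast i =>
        simp only [map_sub, map_add, map_mul, opHom_X, hC, e2, e3, TT_cast, bop_mul hf, ← bop_add, ← bop_sub hf]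
        have := hyc.r3 i
        simp only [UGen.castSucc] at this
        refine (congrArg (bop ε f) (?_ : _ = (0:B))).trans (map_zero (bopHom hf))
        linear_combination this
    · induction i using Fin.lastCases with
      | last =>
        induction j using Fin.lastCases with
        | last => exact absurd rfl hij
        | cast j =>
          simp only [map_sub, map_add, map_mul, opHom_X, hC, e2, e3, TT_last, TT_cast]
          rw [← bop_xop hf, bop_mul_xop hf, hε, hf1, hCx]
          simp only [bop_mul hf, eval', bval]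
          rw [bop_sub hf, bop_add]
          abel
      | cast i =>
        induction j using Fin.lastCases with
        | last =>
          simp only [map_sub, map_add, map_mul, opHom_X, hC, e2, e3, TT_last, TT_cast]
          rw [bop_mul_xop hf, hε, hf1, hCx]
          simp only [bop_mul hf, eval', bval]
          rw [bop_sub hf, bop_add]
          abel
        | cast j =>
          have hne : i ≠ j := fun e => hij (by rw [e])
          simp only [map_sub, map_add, map_mul, opHom_X, hC, e2, e3, TT_cast, bop_mul hf, ← bop_add, ← bop_sub hf]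
          have := hyc.rij i j hne hne.symm
          simp only [UGen.castSucc] at this
          refine (congrArg (bop ε f) (?_ : _ = (0:B))).trans (map_zero (bopHom hf))
          linear_combination this
end

/-- The index set for `m + 1` points. -/
def idx : Option (ℕ ⊕ (CVar m × ℕ)) ⊕ ℕ → Option (ℕ ⊕ (CVar (m + 1) × ℕ))
  | Sum.inl none => none
  | Sum.inl (some (Sum.inl k)) => some (Sum.inl k)
  | Sum.inl (some (Sum.inr (.x2, k))) => some (Sum.inr (.x2, k))
  | Sum.inl (some (Sum.inr (.x3, k))) => some (Sum.inr (.x3, k))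
  | Sum.inl (some (Sum.inr (.xi i, k))) => some (Sum.inr (.xi i.castSucc, k))
  | Sum.inr k => some (Sum.inr (.xi (Fin.last m), k))

theorem idx_bij : Function.Bijective (idx (m := m)) := by
  constructor
  · rintro ((_ | k | ⟨_ | _ | i, k⟩) | k) ((_ | l | ⟨_ | _ | j, l⟩) | l) h <;>
      simp only [idx, Option.some.injEq, Sum.inr.injEq, Sum.inl.injEq, Prod.mk.injEq, CVar.xi.injEq, reduceCtorEq,
        false_and, true_and, and_false, Fin.castSucc_inj] at h ⊢
    · exact h
    · exact h
    · exact h
    · exact h
    · exact (Fin.castSucc_lt_last i).ne h.1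
    · exact (Fin.castSucc_lt_last j).ne' h.1
    · exact h
  · rintro (_ | k | ⟨_ | _ | i, k⟩)
    · exact ⟨Sum.inl none, rfl⟩
    · exact ⟨Sum.inl (some (Sum.inl k)), rfl⟩
    · exact ⟨Sum.inl (some (Sum.inr (.x2, k))), rfl⟩
    · exact ⟨Sum.inl (some (Sum.inr (.x3, k))), rfl⟩
    · induction i using Fin.lastCases with
      | last => exact ⟨Sum.inr k, rfl⟩
      | cast i => exact ⟨Sum.inl (some (Sum.inr (.xi i, k))), rfl⟩

theorem indep_succ (hv : UPoint v) {d : R} (hd : d = dval v (Fin.last m))
    (ih : Indep (fun g : UGen m => v g.castSucc) d) : Indep v d := by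
  obtain ⟨ε, f, hε, hf1, hf⟩ := exists_maps hv hd (qvar (fun g : UGen m => v g.castSucc) d) (qvar_surj _ d)
    (qvar_ker _ d) (fun p hp => aeval_qvar_eq_zero _ d hp)
  have ih' : LinearIndependent R (qmon (qvar (fun g : UGen m => v g.castSucc) d)) := ih
  generalize hB : qvar (fun g : UGen m => v g.castSucc) d = y at *
  have h0 : ∀ p ∈ QRel (fun g : UGen m => v g.castSucc) d, aeval y p = 0 := by
    intro p hp
    rw [← hB]; exact aeval_qvar_eq_zero _ d hp
  have hker : ∀ p ∈ Ideal.span (QRel v d), opHom (TT ε f y) (TT_comm hf) p = 0 := by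
    have : Ideal.span (QRel v d) ≤ RingHom.ker (opHom (TT ε f y) (TT_comm hf)) :=
      Ideal.span_le.mpr fun q hq => opHom_QRel hf h0 hε hf1 hq
    intro p hp; exact this hp
  -- the evaluation at `1`
  let ev : MvPolynomial (CVar (m + 1)) R →ₗ[R] (QAlg (fun g : UGen m => v g.castSucc) d × (ℕ →₀ R)) :=
    (LinearMap.applyₗ ((1, 0) : QAlg (fun g : UGen m => v g.castSucc) d × (ℕ →₀ R))) ∘ₗ
      (opHom (TT ε f y) (TT_comm hf)).toLinearMap
  have hev : ∀ p, ev p = opHom (TT ε f y) (TT_comm hf) p (1, 0) := fun p => rfl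
  have hsi : ∀ z : QAlg v d, Ideal.Quotient.mk (Ideal.span (QRel v d))
      (Function.surjInv Ideal.Quotient.mk_surjective z) = z := fun z => Function.surjInv_eq Ideal.Quotient.mk_surjective z
  let Ψ : QAlg v d →ₗ[R] (QAlg (fun g : UGen m => v g.castSucc) d × (ℕ →₀ R)) :=
    { toFun := fun z => ev (Function.surjInv Ideal.Quotient.mk_surjective z)
      map_add' := fun a b => by
        rw [← map_add, ← sub_eq_zero, ← map_sub, hev, hker, LinearMap.zero_apply]
        rw [← Ideal.Quotient.eq_zero_iff_mem, map_sub, map_add, hsi, hsi, hsi, sub_self]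
      map_smul' := fun r a => by
        rw [RingHom.id_apply, ← map_smul, ← sub_eq_zero, ← map_sub, hev, hker, LinearMap.zero_apply]
        rw [← Ideal.Quotient.eq_zero_iff_mem, map_sub, hsi]
        have : ∀ z : MvPolynomial (CVar (m + 1)) R, Ideal.Quotient.mk (Ideal.span (QRel v d)) (r • z) =
          r • Ideal.Quotient.mk (Ideal.span (QRel v d)) z := fun z => rfl
        rw [this, hsi, sub_self] }
  have hΨ : ∀ p, Ψ (Ideal.Quotient.mk _ p) = opHom (TT ε f y) (TT_comm hf) p (1, 0) := by
    intro p
    change ev _ = _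
    rw [← hev, ← sub_eq_zero, ← map_sub, hev, hker, LinearMap.zero_apply]
    rw [← Ideal.Quotient.eq_zero_iff_mem, map_sub, hsi, sub_self]
  have key : ((Ψ ∘ qmon (qvar v d)) ∘ idx) =
      Sum.elim (LinearMap.inl R _ (ℕ →₀ R) ∘ qmon y)
        (LinearMap.inr R (QAlg (fun g : UGen m => v g.castSucc) d) (ℕ →₀ R) ∘ fun k => Finsupp.single k (1 : R)) := by
    have hb : ∀ c : QAlg (fun g : UGen m => v g.castSucc) d, ∀ k : ℕ, bop ε f c ^ k = bop ε f (c ^ k) := fun c k =>
      (map_pow (bopHom hf) c k).symm
    funext s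
    rcases s with (_ | k | ⟨_ | _ | i, k⟩) | k
    · change Ψ (qmon (qvar v d) (idx (Sum.inl none))) = (qmon y none, 0)
      have : qmon (qvar v d) (idx (Sum.inl none)) = Ideal.Quotient.mk _ 1 := rfl
      rw [this, hΨ, map_one]; rfl
    · change Ψ (qmon (qvar v d) (idx (Sum.inl (some (Sum.inl k))))) = (qmon y (some (Sum.inl k)), 0)
      have : qmon (qvar v d) (idx (Sum.inl (some (Sum.inl k)))) = Ideal.Quotient.mk _ (X .x2 ^ (k + 1) * X .x3) := rfl
      rw [this, hΨ, map_mul, map_pow, opHom_X, opHom_X]
      change (bop ε f (y .x2) ^ (k + 1) * bop ε f (y .x3)) (1, 0) = _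
      rw [hb, bop_mul hf, bop_inl, mul_one]
      rfl
    · change Ψ (qmon (qvar v d) (idx (Sum.inl (some (Sum.inr (.x2, k)))))) = (qmon y (some (Sum.inr (.x2, k))), 0)
      have : qmon (qvar v d) (idx (Sum.inl (some (Sum.inr (.x2, k))))) = Ideal.Quotient.mk _ (X .x2 ^ (k + 1)) := rfl
      rw [this, hΨ, map_pow, opHom_X]
      change (bop ε f (y .x2) ^ (k + 1)) (1, 0) = _
      rw [hb, bop_inl, mul_one]
      rfl
    · change Ψ (qmon (qvar v d) (idx (Sum.inl (some (Sum.inr (.x3, k)))))) = (qmon y (some (Sum.inr (.x3, k))), 0)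
      have : qmon (qvar v d) (idx (Sum.inl (some (Sum.inr (.x3, k))))) = Ideal.Quotient.mk _ (X .x3 ^ (k + 1)) := rfl
      rw [this, hΨ, map_pow, opHom_X]
      change (bop ε f (y .x3) ^ (k + 1)) (1, 0) = _
      rw [hb, bop_inl, mul_one]
      rfl
    · change Ψ (qmon (qvar v d) (idx (Sum.inl (some (Sum.inr (.xi i, k)))))) = (qmon y (some (Sum.inr (.xi i, k))), 0)
      have : qmon (qvar v d) (idx (Sum.inl (some (Sum.inr (.xi i, k))))) =
        Ideal.Quotient.mk _ (X (.xi i.castSucc) ^ (k + 1)) := rfl
      rw [this, hΨ, map_pow, opHom_X, TT_cast, hb, bop_inl, mul_one]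
      rfl
    · change Ψ (qmon (qvar v d) (idx (Sum.inr k))) = (0, Finsupp.single k 1)
      have : qmon (qvar v d) (idx (m := m) (Sum.inr k)) =
        Ideal.Quotient.mk _ (X (.xi (Fin.last m)) ^ (k + 1)) := rfl
      rw [this, hΨ, map_pow, opHom_X, TT_last, xop_pow_one hf]
  have hli : LinearIndependent R ((Ψ ∘ qmon (qvar v d)) ∘ idx) := by
    rw [key]
    refine linearIndependent_inl_union_inr' ih' ?_
    exact Finsupp.linearIndependent_single_one R ℕ
  have h2 : LinearIndependent R (Ψ ∘ qmon (qvar v d)) :=
    (linearIndependent_equiv (Equiv.ofBijective _ idx_bij)).mp hli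
  exact LinearIndependent.of_comp Ψ h2

end step

section main
variable {R : Type u} [CommRing R]

theorem dval_castSucc {m : ℕ} (v : UGen (m + 1) → R) (i : Fin m) :
    dval (fun g : UGen m => v g.castSucc) i = dval v i.castSucc := rfl

theorem indep (m : ℕ) : ∀ (v : UGen m → R) (_ : UPoint v) (d : R) (_ : ∀ i, d = dval v i), Indep v d := by
  induction m with
  | zero => intro v _ d _; exact indep_zero v d
  | succ m ih =>
    intro v hv d hd
    refine indep_succ hv (hd _) (ih _ hv.castSucc d ?_)
    intro i
    rw [dval_castSucc]; exact hd _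

/-- The constant term of the cubic relation is the same for all indices. -/
theorem dval_eq {m : ℕ} {v : UGen m → R} (hv : UPoint v) (i j : Fin m) : dval v i = dval v j := by
  by_cases h : i = j
  · rw [h]
  have l1 := hv.lin i j h (Ne.symm h)
  have l2 := hv.hc i j h (Ne.symm h)
  have l3 := hv.hcb i j h (Ne.symm h)
  simp only [dval]
  generalize v (.cij i j _) = cij at *
  generalize v (.cij j i _) = cji at *
  generalize v (.ci i) = ci at *
  generalize v (.cbi i) = cbi at *
  generalize v (.ci j) = cj at *
  generalize v (.cbi j) = cbj at *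
  generalize v .a = a at *
  generalize v .c = c at *
  generalize v .cb = cb at *
  obtain rfl : a = cij + cji - (ci + cbi + cj + cbj) := by linear_combination -l1
  subst l2 l3
  ring

/-- If the relations of `U_n` hold then the normal monomials are independent. -/
theorem linInd_cmon {m : ℕ} (hm : 1 ≤ m) {v : UGen m → R} (hv : UPoint v) : LinearIndependent R (cmon R m v) := by
  have i0 : Fin m := ⟨0, hm⟩
  have h := indep m v hv (dval v i0) (fun i => dval_eq hv i0 i)
  have hle : Ideal.span (CRel R m v) ≤ Ideal.span (QRel v (dval v i0)) := Ideal.span_mono (Set.subset_insert _ _)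
  let φ : CurveAlg R m v →ₐ[R] QAlg v (dval v i0) := Ideal.Quotient.factorₐ R hle
  refine LinearIndependent.of_comp φ.toLinearMap ?_
  have : (φ.toLinearMap ∘ cmon R m v) = qmon (qvar v (dval v i0)) := by
    funext s
    rcases s with _ | k | ⟨y, k⟩ <;> rfl
  rw [this]
  exact h

theorem cvar_surj {m : ℕ} (v : UGen m → R) : Function.Surjective (aeval (R := R) (cvar v)) := by
  intro z
  obtain ⟨p, rfl⟩ := Ideal.Quotient.mk_surjective z
  refine ⟨p, ?_⟩
  have : aeval (cvar v) = Ideal.Quotient.mkₐ R (Ideal.span (CRel R m v)) := by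
    apply MvPolynomial.algHom_ext
    intro i
    simp [cvar]
  rw [this]; rfl

/-- The normal monomials span. -/
theorem span_cmon {m : ℕ} (hm : 1 ≤ m) (v : UGen m → R) : Submodule.span R (Set.range (cmon R m v)) = ⊤ := by
  have i0 : Fin m := ⟨0, hm⟩
  have h := qspan_eq_top (x := cvar v) (v := v) (cubic_of_cpoint (cpoint_cvar v) i0) (cpoint_cvar v) (cvar_surj v)
  have : cmon R m v = qmon (cvar v) := by
    funext s
    rcases s with _ | k | ⟨y, k⟩ <;> rfl
  rw [this]; exact h

end main

end K332.CFin
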