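import Mathlib.Algebra.MvPolynomial.Eval
import Mathlib.RingTheory.Ideal.Quotient.Operations
import Mathlib.LinearAlgebra.Finsupp.LSum
import Mathlib.LinearAlgebra.LinearIndependent.Basic
import Mathlib.Algebra.Algebra.Subalgebra.Lattice
import Mathlib.Algebra.MvPolynomial.CommRing
import Mathlib.Tactic.LinearCombination
import Mathlib.Tactic.NoncommRing
/-!
# Commuting operators and adjoining one variable

* `opHom`: commuting endomorphisms give a module structure over the polynomial ring.
* `exists_eder`: existence of a map `f : B → B` with `f (b b') = b f b' + ε b' f b` with prescribed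
  values on generators.
* `adj`: the operators on `B × (ℕ →₀ R)` for the ring `B[x] / (b x = ε b x + f b)`.
-/
set_option autoImplicit false
set_option linter.all false
universe u v w

open MvPolynomial

namespace K332.COps

section opHom
variable {R : Type u} [CommRing R] {M : Type v} [AddCommGroup M] [Module R M] {σ : Type w}

/-- The algebra map from the polynomial ring to the endomorphisms given by commuting endomorphisms. -/
noncomputable def opHom (T : σ → Module.End R M) (hT : ∀ i j, T i * T j = T j * T i) :
    MvPolynomial σ R →ₐ[R] Module.End R M :=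
  letI : CommRing (Algebra.adjoin R (Set.range T)) := Algebra.adjoinCommRingOfComm R (by
    rintro _ ⟨i, rfl⟩ _ ⟨j, rfl⟩; exact hT i j)
  (Algebra.adjoin R (Set.range T)).val.comp
    (aeval (fun i => (⟨T i, Algebra.subset_adjoin ⟨i, rfl⟩⟩ : Algebra.adjoin R (Set.range T))))

theorem opHom_X (T : σ → Module.End R M) (hT : ∀ i j, T i * T j = T j * T i) (i : σ) :
    opHom T hT (X i) = T i := by
  let _ : CommRing (Algebra.adjoin R (Set.range T)) := Algebra.adjoinCommRingOfComm R (by
    rintro _ ⟨i, rfl⟩ _ ⟨j, rfl⟩; exact hT i j)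
  have : opHom T hT (X i) = (Algebra.adjoin R (Set.range T)).val
    (aeval (fun i => (⟨T i, Algebra.subset_adjoin ⟨i, rfl⟩⟩ : Algebra.adjoin R (Set.range T))) (X i)) := rfl
  rw [this, aeval_X]
  rfl

end opHom

section eder

variable {R : Type u} [CommRing R] {σ : Type w} {B : Type v} [CommRing B] [Algebra R B]
variable (y : σ → B) (e : σ → R) (b : σ → B)

/-- The operators on `B × R`. -/
noncomputable def edOp (i : σ) : Module.End R (B × R) where
  toFun p := (y i * p.1 + p.2 • b i, e i * p.2)
  map_add' p q := by
    refine Prod.ext ?_ ?_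
    · simp only [Prod.fst_add, Prod.snd_add, mul_add, add_smul]; abel
    · simp only [Prod.snd_add, mul_add]
  map_smul' r p := by
    refine Prod.ext ?_ ?_
    · simp only [Prod.smul_fst, Prod.smul_snd, mul_smul, smul_add, smul_eq_mul, RingHom.id_apply, mul_smul_comm]
    · simp only [Prod.smul_snd, smul_eq_mul, RingHom.id_apply, mul_left_comm]

variable {y e b}

theorem edOp_comm (hb : ∀ i j, (y i - algebraMap R B (e i)) * b j = (y j - algebraMap R B (e j)) * b i) (i j : σ) :
    edOp y e b i * edOp y e b j = edOp y e b j * edOp y e b i := by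
  apply LinearMap.ext
  rintro ⟨p, r⟩
  simp only [Module.End.mul_apply, edOp, LinearMap.coe_mk, AddHom.coe_mk, Prod.mk.injEq]
  constructor
  · have := hb i j
    simp only [Algebra.smul_def, map_mul]
    linear_combination (algebraMap R B r) * this
  · ring

/-- The extension of `b` to polynomials. -/
noncomputable def eder (hb : ∀ i j, (y i - algebraMap R B (e i)) * b j = (y j - algebraMap R B (e j)) * b i) :
    MvPolynomial σ R →ₗ[R] B :=
  LinearMap.fst R B R ∘ₗ (LinearMap.applyₗ ((0, 1) : B × R)) ∘ₗ (opHom _ (edOp_comm hb)).toLinearMap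

theorem eder_def (hb : ∀ i j, (y i - algebraMap R B (e i)) * b j = (y j - algebraMap R B (e j)) * b i)
    (p : MvPolynomial σ R) : eder hb p = (opHom _ (edOp_comm hb) p (0, 1)).1 := rfl

theorem eder_C (hb : ∀ i j, (y i - algebraMap R B (e i)) * b j = (y j - algebraMap R B (e j)) * b i) (a : R) :
    eder hb (C a) = 0 := by
  have h1 : opHom _ (edOp_comm hb) (C a) = algebraMap R _ a := (opHom _ (edOp_comm hb)).commutes a
  rw [eder_def, h1, Module.algebraMap_end_apply, Prod.smul_fst, smul_zero]

theorem opHom_edOp (hb : ∀ i j, (y i - algebraMap R B (e i)) * b j = (y j - algebraMap R B (e j)) * b i)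
    (p : MvPolynomial σ R) (c : B) (r : R) :
    opHom _ (edOp_comm hb) p (c, r) = (aeval y p * c + r • eder hb p, aeval e p * r) := by
  induction p using MvPolynomial.induction_on generalizing c r with
  | C a =>
    have h1 : opHom _ (edOp_comm hb) (C a) = algebraMap R _ a := (opHom _ (edOp_comm hb)).commutes a
    rw [h1, eder_C, Module.algebraMap_end_apply]
    refine Prod.ext ?_ ?_
    · rw [Prod.smul_mk, smul_zero, add_zero, aeval_C, Algebra.smul_def]
    · simp only [Prod.smul_mk, smul_eq_mul, aeval_C, Algebra.algebraMap_self, RingHom.id_apply]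
  | add p q hp hq =>
    simp only [map_add, LinearMap.add_apply, hp, hq]
    refine Prod.ext ?_ ?_
    · simp only [Prod.mk_add_mk, add_mul, smul_add]; abel
    · simp only [Prod.mk_add_mk, add_mul]
  | mul_X p i hp =>
    have h0 : ∀ (c : B) (r : R), opHom _ (edOp_comm hb) (p * X i) (c, r) =
        (aeval y p * (y i * c + r • b i) + (e i * r) • eder hb p, aeval e p * (e i * r)) := by
      intro c r
      rw [map_mul, Module.End.mul_apply, opHom_X]
      simp only [edOp, LinearMap.coe_mk, AddHom.coe_mk]
      rw [hp]
    have h1 : eder hb (p * X i) = aeval y p * b i + e i • eder hb p := by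
      rw [eder_def, h0]
      simp only [mul_zero, zero_add, one_smul, mul_one]
    rw [h0, h1]
    refine Prod.ext ?_ ?_
    · simp only [map_mul, smul_add, mul_smul, Algebra.smul_def, aeval_X]
      ring
    · simp only [map_mul, aeval_X, mul_assoc]

theorem eder_mul (hb : ∀ i j, (y i - algebraMap R B (e i)) * b j = (y j - algebraMap R B (e j)) * b i)
    (p q : MvPolynomial σ R) :
    eder hb (p * q) = aeval y p * eder hb q + aeval e q • eder hb p := by
  rw [eder_def, map_mul, Module.End.mul_apply, opHom_edOp hb, opHom_edOp hb]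
  simp only [mul_zero, zero_add, one_smul, mul_one]

theorem eder_X (hb : ∀ i j, (y i - algebraMap R B (e i)) * b j = (y j - algebraMap R B (e j)) * b i) (i : σ) :
    eder hb (X i) = b i := by
  rw [eder_def, opHom_X]
  simp only [edOp, LinearMap.coe_mk, AddHom.coe_mk, mul_zero, zero_add, one_smul]

/-- Existence of the map `f`. -/
theorem exists_eder (G : Set (MvPolynomial σ R)) (hy : Function.Surjective (aeval (R := R) y))
    (hG : ∀ p : MvPolynomial σ R, aeval y p = 0 → p ∈ Ideal.span G)
    (hG0 : ∀ g ∈ G, aeval y g = 0)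
    (hb : ∀ i j, (y i - algebraMap R B (e i)) * b j = (y j - algebraMap R B (e j)) * b i)
    (he : ∀ g ∈ G, aeval e g = 0) (hf : ∀ g ∈ G, eder hb g = 0) :
    ∃ (ε : B →ₐ[R] R) (f : B →ₗ[R] B), (∀ i, ε (y i) = e i) ∧ (∀ i, f (y i) = b i) ∧
      ∀ p q, f (p * q) = p * f q + ε q • f p := by
  have hker : ∀ p ∈ Ideal.span G, aeval e p = 0 := by
    have : Ideal.span G ≤ RingHom.ker (aeval e : MvPolynomial σ R →ₐ[R] R) :=
      Ideal.span_le.mpr fun q hq => he q hq
    intro p hp; exact this hp
  have hker0 : ∀ p ∈ Ideal.span G, aeval y p = 0 := by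
    have : Ideal.span G ≤ RingHom.ker (aeval y : MvPolynomial σ R →ₐ[R] B) :=
      Ideal.span_le.mpr fun q hq => hG0 q hq
    intro p hp; exact this hp
  have hker' : ∀ p ∈ Ideal.span G, eder hb p = 0 := by
    intro p hp
    induction hp using Submodule.span_induction with
    | mem x hx => exact hf x hx
    | zero => simp only [map_zero]
    | add x y _ _ hx hy => rw [map_add, hx, hy, add_zero]
    | smul a x hx ih =>
      rw [smul_eq_mul, eder_mul, ih, hker x hx, mul_zero, zero_smul, add_zero]
  have hwd : ∀ p q : MvPolynomial σ R, aeval y p = aeval y q → eder hb p = eder hb q := by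
    intro p q h
    have := hker' (p - q) (hG _ (by rw [map_sub, h, sub_self]))
    rwa [map_sub, sub_eq_zero] at this
  have hwd' : ∀ p q : MvPolynomial σ R, aeval y p = aeval y q → aeval e p = aeval e q := by
    intro p q h
    have := hker (p - q) (hG _ (by rw [map_sub, h, sub_self]))
    rwa [map_sub, sub_eq_zero] at this
  let s : B → MvPolynomial σ R := Function.surjInv hy
  have hs : ∀ x, aeval y (s x) = x := Function.surjInv_eq hy
  let f : B →ₗ[R] B :=
    { toFun := fun x => eder hb (s x)
      map_add' := fun x z => by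
        rw [← map_add]
        exact hwd _ _ (by rw [map_add, hs, hs, hs])
      map_smul' := fun r x => by
        rw [RingHom.id_apply, ← map_smul]
        refine hwd _ _ ?_
        rw [hs, map_smul, hs] }
  have hfm : ∀ p, f (aeval y p) = eder hb p := fun p => hwd _ _ (hs _)
  let ε : B →ₐ[R] R :=
    { toFun := fun x => aeval e (s x)
      map_one' := by
        rw [← map_one (aeval (R := R) e)]
        exact hwd' _ _ (by rw [hs, map_one])
      map_mul' := fun x z => by
        rw [← map_mul]
        exact hwd' _ _ (by rw [map_mul, hs, hs, hs])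
      map_zero' := by
        rw [← map_zero (aeval (R := R) e)]
        exact hwd' _ _ (by rw [hs, map_zero])
      map_add' := fun x z => by
        rw [← map_add]
        exact hwd' _ _ (by rw [map_add, hs, hs, hs])
      commutes' := fun r => by
        rw [← AlgHom.commutes (aeval (R := R) e) r]
        exact hwd' _ _ (by rw [hs, AlgHom.commutes]) }
  have hε : ∀ p, ε (aeval y p) = aeval e p := fun p => hwd' _ _ (hs _)
  refine ⟨ε, f, fun i => ?_, fun i => ?_, fun p q => ?_⟩
  · have := hε (X i); rwa [aeval_X, aeval_X] at this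
  · have := hfm (X i); rwa [aeval_X, eder_X] at this
  · obtain ⟨p, rfl⟩ := hy p
    obtain ⟨q, rfl⟩ := hy q
    rw [← map_mul, hfm, hfm, hfm, hε, eder_mul]

end eder

section adj
variable {R : Type u} [CommRing R] {B : Type v} [CommRing B] [Algebra R B] (ε : B →ₐ[R] R) (f : B →ₗ[R] B)

/-- Multiplication by the new variable. -/
noncomputable def xop : Module.End R (B × (ℕ →₀ R)) where
  toFun p := (f p.1, Finsupp.single 0 (ε p.1) + Finsupp.mapDomain (· + 1) p.2)
  map_add' p q := by
    refine Prod.ext ?_ ?_
    · simp
    · simp only [Prod.snd_add, Prod.fst_add, map_add, Finsupp.single_add, Finsupp.mapDomain_add]; abel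
  map_smul' r p := by
    refine Prod.ext ?_ ?_
    · simp
    · simp only [Prod.smul_snd, Prod.smul_fst, map_smul, smul_eq_mul, RingHom.id_apply, smul_add,
        Finsupp.mapDomain_smul, Finsupp.smul_single]

theorem xop_apply (c : B) (g : ℕ →₀ R) :
    xop ε f (c, g) = (f c, Finsupp.single 0 (ε c) + Finsupp.mapDomain (· + 1) g) := rfl

/-- Multiplication by an element of `B`. -/
noncomputable def bop (c : B) : Module.End R (B × (ℕ →₀ R)) :=
  LinearMap.inl R B (ℕ →₀ R) ∘ₗ LinearMap.mulLeft R c ∘ₗ LinearMap.fst R B (ℕ →₀ R) +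
    Finsupp.lsum R (fun k => LinearMap.toSpanSingleton R (B × (ℕ →₀ R)) ((xop ε f ^ (k + 1)) (c, 0))) ∘ₗ
      LinearMap.snd R B (ℕ →₀ R)

theorem bop_inl (c d : B) : bop ε f c (d, 0) = (c * d, 0) := by
  simp [bop]

theorem bop_inr (c : B) (k : ℕ) : bop ε f c (0, Finsupp.single k 1) = (xop ε f ^ (k + 1)) (c, 0) := by
  simp [bop]

variable {ε f} (hf : ∀ p q, f (p * q) = p * f q + ε q • f p)
include hf

theorem f_one : f 1 = 0 := by
  have := hf 1 1
  simp only [mul_one, one_mul, map_one, one_smul] at this
  simpa using this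

theorem xop_pow_one (k : ℕ) : (xop ε f ^ (k + 1)) ((1 : B), (0 : ℕ →₀ R)) = (0, Finsupp.single k 1) := by
  induction k with
  | zero => simp [xop_apply, f_one hf]
  | succ k ih =>
    rw [pow_succ', Module.End.mul_apply, ih, xop_apply]
    simp [Finsupp.mapDomain_single]

/-- Two endomorphisms which commute with `x` and the `bop` and agree at `1` are equal. -/
theorem end_ext {U V : Module.End R (B × (ℕ →₀ R))} (hU : U * xop ε f = xop ε f * U)
    (hV : V * xop ε f = xop ε f * V) (hUV : ∀ c : B, U (c, 0) = V (c, 0)) : U = V := by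
  apply LinearMap.ext
  rintro ⟨c, g⟩
  have h1 : ∀ g : ℕ →₀ R, U (0, g) = V (0, g) := by
    intro g
    induction g using Finsupp.induction_linear with
    | zero => exact hUV 0
    | add a b ha hb =>
      have : ((0 : B), a + b) = (0, a) + (0, b) := by simp
      rw [this, map_add, map_add, ha, hb]
    | single k r =>
      have : ((0 : B), Finsupp.single k r) = r • (0, Finsupp.single k (1 : R)) := by simp
      rw [this, map_smul, map_smul]
      congr 1
      rw [← xop_pow_one hf k]
      have e1 : U * xop ε f ^ (k + 1) = xop ε f ^ (k + 1) * U := (Commute.pow_right (show Commute U (xop ε f) from hU) _)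
      have e2 : V * xop ε f ^ (k + 1) = xop ε f ^ (k + 1) * V := (Commute.pow_right (show Commute V (xop ε f) from hV) _)
      rw [← Module.End.mul_apply, ← Module.End.mul_apply, e1, e2, Module.End.mul_apply, Module.End.mul_apply, hUV]
  have : (c, g) = (c, 0) + (0, g) := by simp
  rw [this, map_add, map_add, h1, hUV]

theorem bop_xop (c : B) : bop ε f c * xop ε f = xop ε f * bop ε f c := by
  apply LinearMap.ext
  rintro ⟨d, g⟩
  have h1 : ∀ g : ℕ →₀ R, (bop ε f c * xop ε f) (0, g) = (xop ε f * bop ε f c) (0, g) := by
    intro g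
    induction g using Finsupp.induction_linear with
    | zero => simp [show ((0 : B), (0 : ℕ →₀ R)) = 0 from rfl]
    | add a b ha hb =>
      have : ((0 : B), a + b) = (0, a) + (0, b) := by simp
      rw [this, map_add, map_add, ha, hb]
    | single k r =>
      have : ((0 : B), Finsupp.single k r) = r • (0, Finsupp.single k (1 : R)) := by simp
      rw [this, map_smul, map_smul]
      congr 1
      rw [Module.End.mul_apply, Module.End.mul_apply, bop_inr, xop_apply]
      simp only [map_zero, Finsupp.single_zero, zero_add, Finsupp.mapDomain_single, bop_inr]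
      rw [pow_succ', Module.End.mul_apply]
  have h2 : (bop ε f c * xop ε f) (d, 0) = (xop ε f * bop ε f c) (d, 0) := by
    rw [Module.End.mul_apply, Module.End.mul_apply, bop_inl, xop_apply, xop_apply]
    simp only [Finsupp.mapDomain_zero, add_zero]
    have : (f d, Finsupp.single 0 (ε d)) = (f d, 0) + ε d • ((0 : B), Finsupp.single 0 (1 : R)) := by simp
    rw [this, map_add, map_smul, bop_inl, bop_inr]
    simp only [zero_add, pow_one, xop_apply, Finsupp.mapDomain_zero, add_zero, Prod.smul_mk, Prod.mk_add_mk,
      Finsupp.smul_single, smul_eq_mul, map_mul, hf]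
    rw [mul_comm (ε d)]
  have : (d, g) = (d, 0) + (0, g) := by simp
  rw [this, map_add, map_add, h1, h2]

theorem bop_mul (c d : B) : bop ε f c * bop ε f d = bop ε f (c * d) := by
  refine end_ext hf ?_ (bop_xop hf _) ?_
  · rw [mul_assoc, bop_xop hf, ← mul_assoc, bop_xop hf, mul_assoc]
  · intro x
    rw [Module.End.mul_apply, bop_inl, bop_inl, bop_inl, mul_assoc]

omit hf in
theorem bop_add (c d : B) : bop ε f (c + d) = bop ε f c + bop ε f d := by
  apply LinearMap.ext
  rintro ⟨x, g⟩
  have h1 : ∀ g : ℕ →₀ R, bop ε f (c + d) (0, g) = (bop ε f c + bop ε f d) (0, g) := by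
    intro g
    induction g using Finsupp.induction_linear with
    | zero => simp [show ((0 : B), (0 : ℕ →₀ R)) = 0 from rfl]
    | add a b ha hb =>
      have : ((0 : B), a + b) = (0, a) + (0, b) := by simp
      rw [this, map_add, map_add, ha, hb]
    | single k r =>
      have : ((0 : B), Finsupp.single k r) = r • (0, Finsupp.single k (1 : R)) := by simp
      rw [this, map_smul, map_smul]
      congr 1
      rw [LinearMap.add_apply, bop_inr, bop_inr, bop_inr, ← map_add]
      simp
  have : (x, g) = (x, 0) + (0, g) := by simp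
  rw [this, map_add, map_add, h1]
  congr 1
  rw [LinearMap.add_apply, bop_inl, bop_inl, bop_inl]
  simp [add_mul]

omit hf in
theorem bop_smul (r : R) (c : B) : bop ε f (r • c) = r • bop ε f c := by
  apply LinearMap.ext
  rintro ⟨x, g⟩
  have h1 : ∀ g : ℕ →₀ R, bop ε f (r • c) (0, g) = (r • bop ε f c) (0, g) := by
    intro g
    induction g using Finsupp.induction_linear with
    | zero => simp [show ((0 : B), (0 : ℕ →₀ R)) = 0 from rfl]
    | add a b ha hb =>
      have : ((0 : B), a + b) = (0, a) + (0, b) := by simp
      rw [this, map_add, map_add, ha, hb]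
    | single k s =>
      have : ((0 : B), Finsupp.single k s) = s • (0, Finsupp.single k (1 : R)) := by simp
      rw [this, map_smul, map_smul]
      congr 1
      rw [LinearMap.smul_apply, bop_inr, bop_inr, ← map_smul]
      simp
  have : (x, g) = (x, 0) + (0, g) := by simp
  rw [this, map_add, map_add, h1]
  congr 1
  rw [LinearMap.smul_apply, bop_inl, bop_inl]
  simp

theorem bop_one : bop ε f (1 : B) = 1 := by
  refine end_ext hf (bop_xop hf _) (by simp) ?_
  intro c
  rw [bop_inl]; simp

/-- The fundamental relation `b x = ε b x + f b`. -/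
theorem bop_mul_xop (c : B) : bop ε f c * xop ε f = ε c • xop ε f + bop ε f (f c) := by
  have hx : xop ε f * xop ε f = xop ε f * xop ε f := rfl
  refine end_ext hf ?_ ?_ ?_
  · rw [bop_xop hf, mul_assoc, bop_xop hf]
  · rw [add_mul, mul_add, bop_xop hf]
    simp
  · intro d
    rw [bop_xop hf, Module.End.mul_apply, bop_inl, LinearMap.add_apply, LinearMap.smul_apply, bop_inl,
      xop_apply, xop_apply]
    simp only [Finsupp.mapDomain_zero, add_zero, Prod.smul_mk, Prod.mk_add_mk, Finsupp.smul_single, smul_eq_mul,
      ← map_mul]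
    rw [mul_comm c d, hf, mul_comm d c, add_comm, mul_comm d (f c)]

/-- `bop` as an algebra map. -/
noncomputable def bopHom : B →ₐ[R] Module.End R (B × (ℕ →₀ R)) :=
  AlgHom.ofLinearMap
    { toFun := bop ε f
      map_add' := bop_add
      map_smul' := bop_smul } (bop_one hf) (fun c d => (bop_mul hf c d).symm)

theorem bopHom_apply (c : B) : bopHom hf c = bop ε f c := rfl

end adj

end K332.COps
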