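import Groth.Agent.Curves.K332.CSpan
import Groth.Agent.Curves.K332.CBase
import Groth.Agent.Curves.K332.COps
import Mathlib.LinearAlgebra.LinearIndependent.Lemmas
/-!
# Linear independence of the normal monomials (induction on the number of points)
-/
set_option autoImplicit false
set_option linter.all false
universe u v w

open MvPolynomial W4c5m1nsnscurves K332.UBasic K332.CSpan K332.CBase K332.COps

namespace K332.CInd

variable {R : Type u} [CommRing R] {m : ℕ}

/-- The cubic relation as a polynomial. -/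
noncomputable def cubicPoly (v : UGen m → R) (d : R) : MvPolynomial (CVar m) R :=
  X .x2 * X .x3 ^ 2 - (X .x2 ^ 2 * X .x3 + C (v .a) * X .x2 * X .x3 + C (v .cb - v .c) * X .x2 +
    C (v .c) * X .x3 + C d)

/-- The relations of the curve together with the cubic relation. -/
def QRel (v : UGen m → R) (d : R) : Set (MvPolynomial (CVar m) R) := insert (cubicPoly v d) (CRel R m v)

/-- The value of the constant term of the cubic relation. -/
def dval (v : UGen m → R) (i : Fin m) : R :=
  v (.ci i) * v (.cbi i) * (v .a + v (.ci i) + v (.cbi i)) - v (.ci i) * v .cb - v .c * (v .a + v (.cbi i))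

/-- The quotient. -/
abbrev QAlg (v : UGen m → R) (d : R) : Type u := MvPolynomial (CVar m) R ⧸ Ideal.span (QRel v d)

noncomputable def qvar (v : UGen m → R) (d : R) (y : CVar m) : QAlg v d := Ideal.Quotient.mk _ (X y)

theorem aeval_qvar (v : UGen m → R) (d : R) : aeval (qvar v d) = Ideal.Quotient.mkₐ R (Ideal.span (QRel v d)) := by
  apply MvPolynomial.algHom_ext
  intro i
  simp [qvar]

theorem aeval_qvar_eq_zero (v : UGen m → R) (d : R) {p : MvPolynomial (CVar m) R} (hp : p ∈ QRel v d) :
    aeval (qvar v d) p = 0 := by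
  rw [aeval_qvar]; exact Ideal.Quotient.eq_zero_iff_mem.mpr (Ideal.subset_span hp)

theorem aeval_cubicPoly {A : Type v} [CommRing A] [Algebra R A] (v : UGen m → R) (d : R) (x : CVar m → A) :
    aeval x (cubicPoly v d) = 0 ↔ Cubic x (v .a) (v .cb - v .c) (v .c) d := by
  simp only [cubicPoly, Cubic, map_sub, map_add, map_mul, map_pow, aeval_X, aeval_C]
  rw [sub_eq_zero]

theorem qvar_cubic (v : UGen m → R) (d : R) : Cubic (qvar v d) (v .a) (v .cb - v .c) (v .c) d :=
  (aeval_cubicPoly v d _).mp (aeval_qvar_eq_zero v d (Set.mem_insert _ _))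

theorem qvar_cpoint (v : UGen m → R) (d : R) : CPoint (fun g => algebraMap R (QAlg v d) (v g)) (qvar v d) :=
  (cpoint_iff v _).mpr fun p hp => aeval_qvar_eq_zero v d (Set.mem_insert_of_mem _ hp)

theorem qvar_surj (v : UGen m → R) (d : R) : Function.Surjective (aeval (R := R) (qvar v d)) := by
  intro z
  obtain ⟨p, rfl⟩ := Ideal.Quotient.mk_surjective z
  exact ⟨p, by rw [aeval_qvar]; rfl⟩

theorem qvar_ker (v : UGen m → R) (d : R) (p : MvPolynomial (CVar m) R) (h : aeval (qvar v d) p = 0) :
    p ∈ Ideal.span (QRel v d) := by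
  rw [aeval_qvar] at h
  exact Ideal.Quotient.eq_zero_iff_mem.mp h

/-- The linear independence statement. -/
def Indep (v : UGen m → R) (d : R) : Prop := LinearIndependent R (qmon (qvar v d))

section zero

theorem indep_zero (v : UGen 0 → R) (d : R) : Indep v d := by
  let x : CVar 0 → CurveAlg3 R (v .a) (v .cb - v .c) (v .c) d := fun y => match y with
    | .x2 => Ideal.Quotient.mk _ (X 0)
    | .x3 => Ideal.Quotient.mk _ (X 1)
    | .xi i => i.elim0
  have aux : ∀ {A : Type u} [CommRing A] (f : MvPolynomial (Fin 2) R →+* A) (a b c d : R)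
      (h : f (X 0 * X 1 ^ 2 - X 0 ^ 2 * X 1 - (C a * X 0 * X 1 + C b * X 0 + C c * X 1 + C d)) = 0),
      f (X 0) * f (X 1) ^ 2 = f (X 0) ^ 2 * f (X 1) + f (C a) * f (X 0) * f (X 1) + f (C b) * f (X 0) +
        f (C c) * f (X 1) + f (C d) := by
    intro A _ f a b c d h
    simp only [map_sub, map_add, map_mul, map_pow] at h
    linear_combination h
  have hc : Cubic x (v .a) (v .cb - v .c) (v .c) d := by
    have h : (Ideal.Quotient.mk (Ideal.span {(X 0 * X 1 ^ 2 - X 0 ^ 2 * X 1 -
        (C (v .a) * X 0 * X 1 + C (v .cb - v .c) * X 0 + C (v .c) * X 1 + C d) : MvPolynomial (Fin 2) R)}))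
        (X 0 * X 1 ^ 2 - X 0 ^ 2 * X 1 - (C (v .a) * X 0 * X 1 + C (v .cb - v .c) * X 0 + C (v .c) * X 1 + C d)) = 0 :=
      Ideal.Quotient.eq_zero_iff_mem.mpr (Ideal.subset_span rfl)
    exact aux _ _ _ _ _ h
  have hx : CPoint (fun g : UGen 0 => algebraMap R (CurveAlg3 R (v .a) (v .cb - v .c) (v .c) d) (v g)) x :=
    ⟨fun i => i.elim0, fun i => i.elim0, fun i => i.elim0⟩
  have hker : ∀ p ∈ Ideal.span (QRel v d), aeval x p = 0 := by
    have : Ideal.span (QRel v d) ≤ RingHom.ker (aeval x : MvPolynomial (CVar 0) R →ₐ[R] _) := by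
      refine Ideal.span_le.mpr fun q hq => ?_
      rcases hq with rfl | hq
      · exact (aeval_cubicPoly v d x).mpr hc
      · exact (cpoint_iff v x).mp hx q hq
    intro p hp; exact this hp
  let φ : QAlg v d →ₐ[R] CurveAlg3 R (v .a) (v .cb - v .c) (v .c) d := Ideal.Quotient.liftₐ _ (aeval x) hker
  have hφ : ∀ y, φ (qvar v d y) = x y := by
    intro y
    have : φ (qvar v d y) = aeval x (X y : MvPolynomial (CVar 0) R) := rfl
    rw [this, aeval_X]
  let e : Option (ℕ ⊕ (CVar 0 × ℕ)) → Option (ℕ ⊕ (Fin 2 × ℕ)) := fun s => match s with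
    | none => none
    | some (Sum.inl k) => some (Sum.inl k)
    | some (Sum.inr (.x2, k)) => some (Sum.inr (0, k))
    | some (Sum.inr (.x3, k)) => some (Sum.inr (1, k))
    | some (Sum.inr (.xi i, k)) => i.elim0
  have he : Function.Injective e := by
    intro s t h
    rcases s with _ | k | ⟨_ | _ | i, k⟩ <;> rcases t with _ | l | ⟨_ | _ | j, l⟩ <;>
      first
      | exact i.elim0
      | exact j.elim0
      | (simp [e] at h; done)
      | (simp [e] at h; rw [h])
      | rfl
  have h3 := (linInd3 R (v .a) (v .cb - v .c) (v .c) d).comp e he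
  have hcomp : (φ.toLinearMap ∘ qmon (qvar v d)) = cmon3 R (v .a) (v .cb - v .c) (v .c) d ∘ e := by
    funext s
    rcases s with _ | k | ⟨_ | _ | i, k⟩
    · simp [qmon, e, cmon3]
    · simp [qmon, e, cmon3, hφ, x]
    · simp [qmon, e, cmon3, hφ, x]
    · simp [qmon, e, cmon3, hφ, x]
    · exact i.elim0
  exact LinearIndependent.of_comp φ.toLinearMap (by rw [hcomp]; exact h3)

end zero

end K332.CInd
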