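import Groth.Agent.Curves.K332.UBasic
/-!
# Spanning by the normal monomials

`qmon x` is the family `1, x₂^(k+1) x₃, y^(k+1)`; if the relations of the curve and the cubic relation hold
then its span is closed under multiplication.
-/
set_option autoImplicit false
set_option linter.all false
universe u v w

open MvPolynomial W4c5m1nsnscurves K332.UBasic

namespace K332.CSpan

/-- The normal monomials in the values `x` of the variables. -/
def qmon {A : Type v} [CommRing A] {m : ℕ} (x : CVar m → A) : Option (ℕ ⊕ (CVar m × ℕ)) → A
  | none => 1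
  | some (Sum.inl k) => x .x2 ^ (k + 1) * x .x3
  | some (Sum.inr (y, k)) => x y ^ (k + 1)

section
variable {R : Type u} [CommRing R] {A : Type v} [CommRing A] [Algebra R A] {m : ℕ} (x : CVar m → A)

/-- Span of the normal monomials. -/
def qspan : Submodule R A := Submodule.span R (Set.range (qmon x))

variable {x}

theorem one_mem : (1 : A) ∈ qspan (R := R) x := Submodule.subset_span ⟨none, rfl⟩

theorem pow_mem (y : CVar m) (k : ℕ) : x y ^ k ∈ qspan (R := R) x := by
  rcases k with _ | k
  · simpa using one_mem
  · exact Submodule.subset_span ⟨some (Sum.inr (y, k)), rfl⟩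

theorem pow_mul_mem (k : ℕ) : x .x2 ^ k * x .x3 ∈ qspan (R := R) x := by
  rcases k with _ | k
  · simpa using pow_mem (R := R) (x := x) .x3 1
  · exact Submodule.subset_span ⟨some (Sum.inl k), rfl⟩

/-- The cubic relation. -/
def Cubic (x : CVar m → A) (a b c d : R) : Prop :=
  x .x2 * x .x3 ^ 2 = x .x2 ^ 2 * x .x3 + algebraMap R A a * x .x2 * x .x3 + algebraMap R A b * x .x2 +
    algebraMap R A c * x .x3 + algebraMap R A d

theorem algebraMap_mul_mem (r : R) {z : A} (hz : z ∈ qspan (R := R) x) : algebraMap R A r * z ∈ qspan (R := R) x := by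
  rw [← Algebra.smul_def]; exact Submodule.smul_mem _ _ hz

theorem mem23 {a b c d : R} (hc : Cubic x a b c d) (j : ℕ) : ∀ i : ℕ, x .x2 ^ i * x .x3 ^ j ∈ qspan (R := R) x := by
  induction j using Nat.strong_induction_on with
  | _ j ih =>
    intro i
    rcases j with _ | _ | j
    · simpa using pow_mem _ _
    · simpa using pow_mul_mem _
    · rcases i with _ | i
      · simpa using pow_mem (R := R) (x := x) .x3 (j + 2)
      · have e : x .x2 ^ (i + 1) * x .x3 ^ (j + 2) =
            x .x2 ^ (i + 2) * x .x3 ^ (j + 1) + algebraMap R A a * (x .x2 ^ (i + 1) * x .x3 ^ (j + 1)) +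
            algebraMap R A b * (x .x2 ^ (i + 1) * x .x3 ^ j) + algebraMap R A c * (x .x2 ^ i * x .x3 ^ (j + 1)) +
            algebraMap R A d * (x .x2 ^ i * x .x3 ^ j) := by
          rw [Cubic] at hc
          linear_combination (x .x2 ^ i * x .x3 ^ j) * hc
        rw [show j + 1 + 1 = j + 2 from rfl, e]
        exact add_mem (add_mem (add_mem (add_mem (ih (j + 1) (by omega) _)
          (algebraMap_mul_mem _ (ih (j + 1) (by omega) _)))
          (algebraMap_mul_mem _ (ih j (by omega) _)))
          (algebraMap_mul_mem _ (ih (j + 1) (by omega) _)))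
          (algebraMap_mul_mem _ (ih j (by omega) _))

variable {v : UGen m → R}

theorem mem23i {a b c d : R} (hc : Cubic x a b c d) (hx : CPoint (fun g => algebraMap R A (v g)) x) (l : Fin m) (k : ℕ) :
    ∀ i j : ℕ, x .x2 ^ i * x .x3 ^ j * x (.xi l) ^ k ∈ qspan (R := R) x := by
  induction k with
  | zero => intro i j; simpa using mem23 hc j i
  | succ k ih =>
    have key : ∀ n i j : ℕ, i + j = n → x .x2 ^ i * x .x3 ^ j * x (.xi l) ^ (k + 1) ∈ qspan (R := R) x := by
      intro n
      induction n with
      | zero =>
        intro i j h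
        obtain ⟨rfl, rfl⟩ : i = 0 ∧ j = 0 := by omega
        simpa using pow_mem (R := R) (x := x) (.xi l) (k + 1)
      | succ n ihn =>
        intro i j h
        rcases i with _ | i
        · rcases j with _ | j
          · omega
          · have e : x .x2 ^ 0 * x .x3 ^ (j + 1) * x (.xi l) ^ (k + 1) =
                x .x2 ^ 1 * x .x3 ^ (j + 1) * x (.xi l) ^ k +
                algebraMap R A (v .a + v (.ci l) + v (.cbi l)) * (x .x2 ^ 0 * x .x3 ^ j * x (.xi l) ^ (k + 1)) +
                algebraMap R A (v .cb - v .c - (v .a + v (.ci l) + v (.cbi l)) * v (.cbi l)) *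
                  (x .x2 ^ 0 * x .x3 ^ j * x (.xi l) ^ k) := by
              have := hx.r3 l
              simp only [map_add, map_sub, map_mul]
              linear_combination (x .x3 ^ j * x (.xi l) ^ k) * this
            rw [e]
            exact add_mem (add_mem (ih _ _) (algebraMap_mul_mem _ (ihn 0 j (by omega)))) (algebraMap_mul_mem _ (ih _ _))
        · have e : x .x2 ^ (i + 1) * x .x3 ^ j * x (.xi l) ^ (k + 1) =
                x .x2 ^ (i + 1) * x .x3 ^ (j + 1) * x (.xi l) ^ k +
                algebraMap R A (v (.ci l)) * (x .x2 ^ i * x .x3 ^ j * x (.xi l) ^ (k + 1)) +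
                algebraMap R A (v (.cbi l)) * (x .x2 ^ (i + 1) * x .x3 ^ j * x (.xi l) ^ k) -
                algebraMap R A (v .c) * (x .x2 ^ i * x .x3 ^ j * x (.xi l) ^ k) := by
              have := hx.r2 l
              linear_combination (x .x2 ^ i * x .x3 ^ j * x (.xi l) ^ k) * this
          rw [e]
          exact sub_mem (add_mem (add_mem (ih _ _) (algebraMap_mul_mem _ (ihn i j (by omega))))
            (algebraMap_mul_mem _ (ih _ _))) (algebraMap_mul_mem _ (ih _ _))
    intro i j
    exact key _ i j rfl

theorem mem23ij {a b c d : R} (hc : Cubic x a b c d) (hx : CPoint (fun g => algebraMap R A (v g)) x) (l l' : Fin m)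
    (n : ℕ) : ∀ i j k k' : ℕ, k + k' = n →
      x .x2 ^ i * x .x3 ^ j * x (.xi l) ^ k * x (.xi l') ^ k' ∈ qspan (R := R) x := by
  induction n using Nat.strong_induction_on with
  | _ n ih =>
    intro i j k k' h
    by_cases hl : l = l'
    · subst hl
      have := mem23i hc hx l (k + k') i j
      rwa [pow_add, ← mul_assoc] at this
    rcases k with _ | k
    · simpa using mem23i hc hx l' k' i j
    rcases k' with _ | k'
    · simpa using mem23i hc hx l (k + 1) i j
    · have e : x .x2 ^ i * x .x3 ^ j * x (.xi l) ^ (k + 1) * x (.xi l') ^ (k' + 1) =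
          x .x2 ^ (i + 1) * x .x3 ^ (j + 1) * x (.xi l) ^ k * x (.xi l') ^ k' +
          algebraMap R A (v (.cij l l' hl)) * (x .x2 ^ i * x .x3 ^ j * x (.xi l) ^ k * x (.xi l') ^ (k' + 1)) +
          algebraMap R A (v (.cij l' l (Ne.symm hl))) * (x .x2 ^ i * x .x3 ^ j * x (.xi l) ^ (k + 1) * x (.xi l') ^ k') -
          algebraMap R A (v .c) * (x .x2 ^ i * x .x3 ^ j * x (.xi l) ^ k * x (.xi l') ^ k') := by
        have := hx.rij l l' hl (Ne.symm hl)
        linear_combination (x .x2 ^ i * x .x3 ^ j * x (.xi l) ^ k * x (.xi l') ^ k') * this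
      rw [e]
      exact sub_mem (add_mem (add_mem (ih (k + k') (by omega) _ _ _ _ rfl)
        (algebraMap_mul_mem _ (ih (k + (k' + 1)) (by omega) _ _ _ _ rfl)))
        (algebraMap_mul_mem _ (ih (k + 1 + k') (by omega) _ _ _ _ rfl)))
        (algebraMap_mul_mem _ (ih (k + k') (by omega) _ _ _ _ rfl))

/-- The span of the normal monomials is stable under multiplication by the variables. -/
theorem mul_mem_qspan {a b c d : R} (hc : Cubic x a b c d) (hx : CPoint (fun g => algebraMap R A (v g)) x)
    (y : CVar m) {z : A} (hz : z ∈ qspan (R := R) x) : x y * z ∈ qspan (R := R) x := by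
  induction hz using Submodule.span_induction with
  | zero => simp
  | add p q _ _ hp hq => rw [mul_add]; exact add_mem hp hq
  | smul r p _ hp => rw [mul_smul_comm]; exact Submodule.smul_mem _ _ hp
  | mem z hz =>
    obtain ⟨e, rfl⟩ := hz
    rcases e with _ | k | ⟨w, k⟩
    · simpa [qmon] using pow_mem (R := R) (x := x) y 1
    · rcases y with _ | _ | l
      · have := pow_mul_mem (R := R) (x := x) (k + 2)
        convert this using 1; simp only [qmon]; ring
      · have := mem23 hc 2 (k + 1)
        convert this using 1; simp only [qmon]; ring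
      · have := mem23i hc hx l 1 (k + 1) 1
        convert this using 1; simp only [qmon]; ring
    · rcases y with _ | _ | l
      · rcases w with _ | _ | l'
        · have := pow_mem (R := R) (x := x) .x2 (k + 2)
          convert this using 1; simp only [qmon]; ring
        · have := mem23 hc (k + 1) 1
          convert this using 1; simp only [qmon]; ring
        · have := mem23i hc hx l' (k + 1) 1 0
          convert this using 1; simp only [qmon]; ring
      · rcases w with _ | _ | l'
        · have := mem23 hc 1 (k + 1)
          convert this using 1; simp only [qmon]; ring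
        · have := pow_mem (R := R) (x := x) .x3 (k + 2)
          convert this using 1; simp only [qmon]; ring
        · have := mem23i hc hx l' (k + 1) 0 1
          convert this using 1; simp only [qmon]; ring
      · rcases w with _ | _ | l'
        · have := mem23i hc hx l 1 (k + 1) 0
          convert this using 1; simp only [qmon]; ring
        · have := mem23i hc hx l 1 0 (k + 1)
          convert this using 1; simp only [qmon]; ring
        · have := mem23ij hc hx l l' _ 0 0 1 (k + 1) rfl
          convert this using 1; simp only [qmon]; ring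

/-- The normal monomials span, if the variables generate. -/
theorem qspan_eq_top {a b c d : R} (hc : Cubic x a b c d) (hx : CPoint (fun g => algebraMap R A (v g)) x)
    (hs : Function.Surjective (aeval (R := R) x)) : Submodule.span R (Set.range (qmon x)) = ⊤ := by
  rw [eq_top_iff]
  rintro z -
  obtain ⟨p, rfl⟩ := hs z
  change aeval x p ∈ qspan (R := R) x
  induction p using MvPolynomial.induction_on with
  | C r => rw [aeval_C, Algebra.algebraMap_eq_smul_one]; exact Submodule.smul_mem _ _ one_mem
  | add p q hp hq => rw [map_add]; exact add_mem hp hq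
  | mul_X p y hp => rw [map_mul, aeval_X, mul_comm]; exact mul_mem_qspan hc hx y hp

/-- The cubic relation follows from the relations of the curve for any index. -/
theorem cubic_of_cpoint (hx : CPoint (fun g => algebraMap R A (v g)) x) (i : Fin m) :
    Cubic x (v .a) (v .cb - v .c) (v .c)
      (v (.ci i) * v (.cbi i) * (v .a + v (.ci i) + v (.cbi i)) - v (.ci i) * v .cb - v .c * (v .a + v (.cbi i))) := by
  have h2 := hx.r2 i
  have h3 := hx.r3 i
  rw [Cubic]
  simp only [map_add, map_sub, map_mul]
  linear_combination x .x2 * h3 - (x .x3 - algebraMap R A (v .a) - algebraMap R A (v (.ci i)) -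
    algebraMap R A (v (.cbi i))) * h2 - algebraMap R A (v (.ci i)) * h3

end

end K332.CSpan
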