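import Groth.Agent.Curves.K332.CInd
/-!
# The identities for adjoining one more point
-/
set_option autoImplicit false
set_option linter.all false
universe u v w

open MvPolynomial W4c5m1nsnscurves K332.UBasic K332.CSpan K332.CBase K332.COps K332.CInd

namespace K332.CStep

section ident
variable {B : Type v} [CommRing B]

/-- The values of the products with the new variable (constant part). -/
def bval {m : ℕ} (v : UGen (m + 1) → B) (y : CVar m → B) : CVar m → B
  | .x2 => y .x2 * y .x3 + v (.cbi (Fin.last m)) * y .x2 - v .c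
  | .x3 => y .x2 * y .x3 + (v .cb - v .c -
      (v .a + v (.ci (Fin.last m)) + v (.cbi (Fin.last m))) * v (.cbi (Fin.last m)))
  | .xi i => y .x2 * y .x3 + v (.cij (Fin.last m) i.castSucc (Fin.castSucc_lt_last i).ne') * y (.xi i) - v .c

/-- The coordinates of the new point. -/
def eval' {m : ℕ} (v : UGen (m + 1) → B) : CVar m → B
  | .x2 => v (.ci (Fin.last m))
  | .x3 => v .a + v (.ci (Fin.last m)) + v (.cbi (Fin.last m))
  | .xi i => v (.cij i.castSucc (Fin.last m) (Fin.castSucc_lt_last i).ne)

variable {m : ℕ} {v : UGen (m + 1) → B} (hv : UPoint v) {y : CVar m → B} (hy : CPoint (fun g => v g.castSucc) y)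
  (hc : y .x2 * y .x3 ^ 2 = y .x2 ^ 2 * y .x3 + v .a * y .x2 * y .x3 + (v .cb - v .c) * y .x2 +
    v .c * y .x3 + dval v (Fin.last m))
include hv hy hc

theorem s23 : (y .x2 - eval' v .x2) * bval v y .x3 = (y .x3 - eval' v .x3) * bval v y .x2 := by
  simp only [eval', bval, dval] at *
  linear_combination -hc

theorem s2i (i : Fin m) : (y .x2 - eval' v .x2) * bval v y (.xi i) = (y (.xi i) - eval' v (.xi i)) * bval v y .x2 := by
  have h2 := hy.r2 i
  have h3 := hy.r3 i
  have l1 := hv.lin i.castSucc (Fin.last m) (Fin.castSucc_lt_last i).ne (Fin.castSucc_lt_last i).ne'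
  have l2 := hv.hc i.castSucc (Fin.last m) (Fin.castSucc_lt_last i).ne (Fin.castSucc_lt_last i).ne'
  have l3 := hv.hcb i.castSucc (Fin.last m) (Fin.castSucc_lt_last i).ne (Fin.castSucc_lt_last i).ne'
  simp only [eval', bval, dval, UGen.castSucc] at *
  generalize v (.cij i.castSucc (Fin.last m) (Fin.castSucc_lt_last i).ne) = ciw at *
  generalize v (.cij (Fin.last m) i.castSucc (Fin.castSucc_lt_last i).ne') = cwi at *
  generalize v (.ci (Fin.last m)) = cw at *
  generalize v (.cbi (Fin.last m)) = cbw at *
  generalize v (.ci i.castSucc) = ci at *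
  generalize v (.cbi i.castSucc) = cbi at *
  generalize v .a = a at *
  generalize v .c = c at *
  generalize v .cb = cb at *
  generalize y .x2 = x2 at *
  generalize y .x3 = x3 at *
  generalize y (.xi i) = xi at *
  obtain rfl : a = ciw + cwi - (ci + cbi + cw + cbw) := by linear_combination -l1
  subst l2 l3
  linear_combination (cwi - cbw - (ciw + cwi - (ci + cbi + cw + cbw) + ci + cbi)) * h2 - x2 * h3

theorem s3i (i : Fin m) : (y .x3 - eval' v .x3) * bval v y (.xi i) = (y (.xi i) - eval' v (.xi i)) * bval v y .x3 := by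
  have h2 := hy.r2 i
  have h3 := hy.r3 i
  have l1 := hv.lin i.castSucc (Fin.last m) (Fin.castSucc_lt_last i).ne (Fin.castSucc_lt_last i).ne'
  have l2 := hv.hc i.castSucc (Fin.last m) (Fin.castSucc_lt_last i).ne (Fin.castSucc_lt_last i).ne'
  have l3 := hv.hcb i.castSucc (Fin.last m) (Fin.castSucc_lt_last i).ne (Fin.castSucc_lt_last i).ne'
  simp only [eval', bval, dval, UGen.castSucc] at *
  generalize v (.cij i.castSucc (Fin.last m) (Fin.castSucc_lt_last i).ne) = ciw at *
  generalize v (.cij (Fin.last m) i.castSucc (Fin.castSucc_lt_last i).ne') = cwi at *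
  generalize v (.ci (Fin.last m)) = cw at *
  generalize v (.cbi (Fin.last m)) = cbw at *
  generalize v (.ci i.castSucc) = ci at *
  generalize v (.cbi i.castSucc) = cbi at *
  generalize v .a = a at *
  generalize v .c = c at *
  generalize v .cb = cb at *
  generalize y .x2 = x2 at *
  generalize y .x3 = x3 at *
  generalize y (.xi i) = xi at *
  obtain rfl : a = ciw + cwi - (ci + cbi + cw + cbw) := by linear_combination -l1
  subst l2 l3
  linear_combination hc + cwi * h3 - x2 * h3 - (ciw + cwi - (ci + cbi + cw + cbw) + ci + cbi) * h2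

theorem sij (i j : Fin m) (hij : i ≠ j) : (y (.xi i) - eval' v (.xi i)) * bval v y (.xi j) =
    (y (.xi j) - eval' v (.xi j)) * bval v y (.xi i) := by
  have h2 := hy.r2 i
  have h3 := hy.r3 i
  have h2' := hy.r2 j
  have h3' := hy.r3 j
  have h4 := hy.rij i j hij hij.symm
  have l1 := hv.lin i.castSucc (Fin.last m) (Fin.castSucc_lt_last i).ne (Fin.castSucc_lt_last i).ne'
  have l1' := hv.lin j.castSucc (Fin.last m) (Fin.castSucc_lt_last j).ne (Fin.castSucc_lt_last j).ne'
  have t1 := hv.tri j.castSucc (Fin.last m) i.castSucc (Fin.castSucc_lt_last j).ne (Fin.castSucc_lt_last j).ne'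
    (Fin.castSucc_lt_last i).ne' (fun e => hij.symm (Fin.castSucc_injective _ e))
  have t2 := hv.tri i.castSucc (Fin.last m) j.castSucc (Fin.castSucc_lt_last i).ne (Fin.castSucc_lt_last i).ne'
    (Fin.castSucc_lt_last j).ne' (fun e => hij (Fin.castSucc_injective _ e))
  simp only [eval', bval, dval, UGen.castSucc] at *
  generalize v (.cij i.castSucc (Fin.last m) _) = ciw at *
  generalize v (.cij (Fin.last m) i.castSucc _) = cwi at *
  generalize v (.cij j.castSucc (Fin.last m) _) = cjw at *
  generalize v (.cij (Fin.last m) j.castSucc _) = cwj at *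
  generalize v (.cij i.castSucc j.castSucc _) = cij at *
  generalize v (.cij j.castSucc i.castSucc _) = cji at *
  generalize v (.ci (Fin.last m)) = cw at *
  generalize v (.cbi (Fin.last m)) = cbw at *
  generalize v (.ci i.castSucc) = ci at *
  generalize v (.cbi i.castSucc) = cbi at *
  generalize v (.ci j.castSucc) = cj at *
  generalize v (.cbi j.castSucc) = cbj at *
  generalize v .a = a at *
  generalize v .c = c at *
  generalize v .cb = cb at *
  generalize y .x2 = x2 at *
  generalize y .x3 = x3 at *
  generalize y (.xi i) = xi at *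
  generalize y (.xi j) = xj at *
  linear_combination x2 * h3 + (a + ci + cbi) * h2 - x2 * h3' - (a + cj + cbj) * h2' + (cwj - cwi) * h4
    - (x2 * x3 - c) * l1 + (x2 * x3 - c) * l1' - xi * t1 + xj * t2

theorem f1 (i : Fin m) : y .x2 * bval v y (.xi i) + eval' v (.xi i) * bval v y .x2 -
    (y .x2 * bval v y .x3 + eval' v .x3 * bval v y .x2 + v (.ci i.castSucc) * bval v y (.xi i) +
      v (.cbi i.castSucc) * bval v y .x2) = 0 := by
  have h2 := hy.r2 i
  have h3 := hy.r3 i
  have l1 := hv.lin i.castSucc (Fin.last m) (Fin.castSucc_lt_last i).ne (Fin.castSucc_lt_last i).ne'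
  have l2 := hv.hc i.castSucc (Fin.last m) (Fin.castSucc_lt_last i).ne (Fin.castSucc_lt_last i).ne'
  have l3 := hv.hcb i.castSucc (Fin.last m) (Fin.castSucc_lt_last i).ne (Fin.castSucc_lt_last i).ne'
  simp only [eval', bval, dval, UGen.castSucc] at *
  generalize v (.cij i.castSucc (Fin.last m) (Fin.castSucc_lt_last i).ne) = ciw at *
  generalize v (.cij (Fin.last m) i.castSucc (Fin.castSucc_lt_last i).ne') = cwi at *
  generalize v (.ci (Fin.last m)) = cw at *
  generalize v (.cbi (Fin.last m)) = cbw at *
  generalize v (.ci i.castSucc) = ci at *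
  generalize v (.cbi i.castSucc) = cbi at *
  generalize v .a = a at *
  generalize v .c = c at *
  generalize v .cb = cb at *
  generalize y .x2 = x2 at *
  generalize y .x3 = x3 at *
  generalize y (.xi i) = xi at *
  obtain rfl : a = ciw + cwi - (ci + cbi + cw + cbw) := by linear_combination -l1
  subst l2 l3
  linear_combination cwi * h2

theorem f2 (i : Fin m) : y .x3 * bval v y (.xi i) + eval' v (.xi i) * bval v y .x3 -
    (y .x2 * bval v y .x3 + eval' v .x3 * bval v y .x2 +
      (v .a + v (.ci i.castSucc) + v (.cbi i.castSucc)) * bval v y (.xi i)) = 0 := by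
  have h2 := hy.r2 i
  have h3 := hy.r3 i
  have l1 := hv.lin i.castSucc (Fin.last m) (Fin.castSucc_lt_last i).ne (Fin.castSucc_lt_last i).ne'
  have l2 := hv.hc i.castSucc (Fin.last m) (Fin.castSucc_lt_last i).ne (Fin.castSucc_lt_last i).ne'
  have l3 := hv.hcb i.castSucc (Fin.last m) (Fin.castSucc_lt_last i).ne (Fin.castSucc_lt_last i).ne'
  simp only [eval', bval, dval, UGen.castSucc] at *
  generalize v (.cij i.castSucc (Fin.last m) (Fin.castSucc_lt_last i).ne) = ciw at *
  generalize v (.cij (Fin.last m) i.castSucc (Fin.castSucc_lt_last i).ne') = cwi at *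
  generalize v (.ci (Fin.last m)) = cw at *
  generalize v (.cbi (Fin.last m)) = cbw at *
  generalize v (.ci i.castSucc) = ci at *
  generalize v (.cbi i.castSucc) = cbi at *
  generalize v .a = a at *
  generalize v .c = c at *
  generalize v .cb = cb at *
  generalize y .x2 = x2 at *
  generalize y .x3 = x3 at *
  generalize y (.xi i) = xi at *
  obtain rfl : a = ciw + cwi - (ci + cbi + cw + cbw) := by linear_combination -l1
  subst l2 l3
  linear_combination hc + cwi * h3

theorem f3 (i j : Fin m) (hij : i ≠ j) : y (.xi i) * bval v y (.xi j) + eval' v (.xi j) * bval v y (.xi i) -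
    (y .x2 * bval v y .x3 + eval' v .x3 * bval v y .x2 +
      v (.cij i.castSucc j.castSucc (fun e => hij (Fin.castSucc_injective _ e))) * bval v y (.xi j) +
      v (.cij j.castSucc i.castSucc (fun e => hij (Fin.castSucc_injective _ e).symm)) * bval v y (.xi i)) = 0 := by
  have h2 := hy.r2 i
  have h3 := hy.r3 i
  have h4 := hy.rij i j hij hij.symm
  have l1' := hv.lin j.castSucc (Fin.last m) (Fin.castSucc_lt_last j).ne (Fin.castSucc_lt_last j).ne'
  have l0 := hv.lin i.castSucc j.castSucc (fun e => hij (Fin.castSucc_injective _ e))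
    (fun e => hij (Fin.castSucc_injective _ e).symm)
  have t1 := hv.tri j.castSucc (Fin.last m) i.castSucc (Fin.castSucc_lt_last j).ne (Fin.castSucc_lt_last j).ne'
    (Fin.castSucc_lt_last i).ne' (fun e => hij.symm (Fin.castSucc_injective _ e))
  simp only [eval', bval, dval, UGen.castSucc] at *
  generalize v (.cij i.castSucc (Fin.last m) _) = ciw at *
  generalize v (.cij (Fin.last m) i.castSucc _) = cwi at *
  generalize v (.cij j.castSucc (Fin.last m) _) = cjw at *
  generalize v (.cij (Fin.last m) j.castSucc _) = cwj at *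
  generalize v (.cij i.castSucc j.castSucc _) = cij at *
  generalize v (.cij j.castSucc i.castSucc _) = cji at *
  generalize v (.ci (Fin.last m)) = cw at *
  generalize v (.cbi (Fin.last m)) = cbw at *
  generalize v (.ci i.castSucc) = ci at *
  generalize v (.cbi i.castSucc) = cbi at *
  generalize v (.ci j.castSucc) = cj at *
  generalize v (.cbi j.castSucc) = cbj at *
  generalize v .a = a at *
  generalize v .c = c at *
  generalize v .cb = cb at *
  generalize y .x2 = x2 at *
  generalize y .x3 = x3 at *
  generalize y (.xi i) = xi at *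
  generalize y (.xi j) = xj at *
  linear_combination x2 * h3 + (a + ci + cbi) * h2 + cwj * h4
    + (x2 * x3 - c) * (l1' - l0) - xi * t1

theorem f4 : y .x2 * (y .x3 * bval v y .x3 + eval' v .x3 * bval v y .x3) +
    eval' v .x3 * eval' v .x3 * bval v y .x2 -
    (y .x2 * y .x2 * bval v y .x3 + eval' v .x3 * (y .x2 * bval v y .x2 + eval' v .x2 * bval v y .x2) +
      (v .a * y .x2 * bval v y .x3 + eval' v .x3 * (v .a * bval v y .x2)) +
      (v .cb - v .c) * bval v y .x2 + v .c * bval v y .x3) = 0 := by
  simp only [eval', bval, dval, UGen.castSucc] at *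
  generalize v (.ci (Fin.last m)) = cw at *
  generalize v (.cbi (Fin.last m)) = cbw at *
  generalize v .a = a at *
  generalize v .c = c at *
  generalize v .cb = cb at *
  generalize y .x2 = x2 at *
  generalize y .x3 = x3 at *
  linear_combination x2 * hc

end ident

end K332.CStep
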