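import Mathlib.RingTheory.PowerSeries.WellKnown
import Mathlib.RingTheory.PowerSeries.Basic
import Mathlib.SetTheory.Cardinal.Finite
import Mathlib.LinearAlgebra.Dimension.Constructions
import Mathlib.LinearAlgebra.FreeModule.Basic
import Mathlib.LinearAlgebra.FreeModule.StrongRankCondition
import Mathlib.Data.Finite.Sum
import Mathlib.Data.Finite.Sigma
import Mathlib.Data.Finite.Prod
import Mathlib.Tactic.LinearCombination
import Mathlib.Algebra.DirectSum.Decomposition
import Mathlib.Algebra.BigOperators.Fin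
import Groth.Prelude.Def_W4c5m1nsnscurvesC
/-!
# Counting indices of a weighted basis, and ranks of graded pieces
-/
set_option autoImplicit false
set_option linter.all false
universe u v w

open PowerSeries Finset

namespace K332.Cnt

/-- The number of `i` with `w i = d` is finite and is the coefficient of `H` in degree `d`. -/
def Cnt {ι : Type} (w : ι → ℕ) (H : PowerSeries ℤ) : Prop :=
  (∀ d, Finite {i // w i = d}) ∧ ∀ d, (Nat.card {i // w i = d} : ℤ) = coeff d H

theorem Cnt.equiv {ι κ : Type} {w : ι → ℕ} {H : PowerSeries ℤ} (h : Cnt w H) (e : κ ≃ ι) {w' : κ → ℕ}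
    (hw : ∀ k, w' k = w (e k)) : Cnt w' H := by
  have e' : ∀ d, {i // w' i = d} ≃ {i // w i = d} := fun d =>
    e.subtypeEquiv (fun k => by rw [hw])
  refine ⟨fun d => ?_, fun d => ?_⟩
  · haveI := h.1 d
    exact Finite.of_equiv _ (e' d).symm
  · rw [Nat.card_congr (e' d)]; exact h.2 d

theorem Cnt.sum {ι κ : Type} {w : ι → ℕ} {w' : κ → ℕ} {H H' : PowerSeries ℤ} (h : Cnt w H) (h' : Cnt w' H') :
    Cnt (Sum.elim w w') (H + H') := by
  have e : ∀ d, {i // Sum.elim w w' i = d} ≃ {i // w i = d} ⊕ {i // w' i = d} := fun d =>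
    Equiv.subtypeSum
  refine ⟨fun d => ?_, fun d => ?_⟩
  · haveI := h.1 d
    haveI := h'.1 d
    exact Finite.of_equiv _ (e d).symm
  · haveI := h.1 d
    haveI := h'.1 d
    rw [Nat.card_congr (e d), Nat.card_sum, map_add, ← h.2, ← h'.2]
    push_cast; rfl

theorem Cnt.prod {ι κ : Type} {w : ι → ℕ} {w' : κ → ℕ} {H H' : PowerSeries ℤ} (h : Cnt w H) (h' : Cnt w' H') :
    Cnt (fun p : ι × κ => w p.1 + w' p.2) (H * H') := by
  have e : ∀ d, {p : ι × κ // w p.1 + w' p.2 = d} ≃
      Σ x : (antidiagonal d : Finset (ℕ × ℕ)), {i // w i = x.1.1} × {j // w' j = x.1.2} := fun d =>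
    { toFun := fun p => ⟨⟨(w p.1.1, w' p.1.2), mem_antidiagonal.mpr p.2⟩, (⟨p.1.1, rfl⟩, ⟨p.1.2, rfl⟩)⟩
      invFun := fun q => ⟨(q.2.1.1, q.2.2.1), by
        rw [q.2.1.2, q.2.2.2]; exact mem_antidiagonal.mp q.1.2⟩
      left_inv := fun p => rfl
      right_inv := fun q => by
        obtain ⟨⟨⟨a, b⟩, hab⟩, ⟨⟨i, hi⟩, ⟨j, hj⟩⟩⟩ := q
        dsimp only at hi hj
        subst hi hj
        rfl }
  refine ⟨fun d => ?_, fun d => ?_⟩
  · haveI : ∀ x : (antidiagonal d : Finset (ℕ × ℕ)), Finite ({i // w i = x.1.1} × {j // w' j = x.1.2}) := fun x => by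
      haveI := h.1 x.1.1
      haveI := h'.1 x.1.2
      infer_instance
    exact Finite.of_equiv _ (e d).symm
  · haveI : ∀ x : (antidiagonal d : Finset (ℕ × ℕ)), Finite ({i // w i = x.1.1} × {j // w' j = x.1.2}) := fun x => by
      haveI := h.1 x.1.1
      haveI := h'.1 x.1.2
      infer_instance
    rw [Nat.card_congr (e d), Nat.card_sigma, coeff_mul]
    rw [Finset.sum_coe_sort (antidiagonal d) (fun x => Nat.card ({i // w i = x.1} × {j // w' j = x.2}))]
    push_cast
    refine Finset.sum_congr rfl fun x _ => ?_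
    rw [Nat.card_prod, ← h.2, ← h'.2]
    push_cast; rfl

/-- A finite set in degree `0`. -/
theorem cnt_zero (ι : Type) [Finite ι] : Cnt (fun _ : ι => 0) (C (Nat.card ι : ℤ)) := by
  refine ⟨fun d => inferInstance, fun d => ?_⟩
  rw [coeff_C]
  split_ifs with h
  · subst h
    rw [Nat.card_congr (Equiv.subtypeUnivEquiv (fun _ => rfl))]
  · haveI : IsEmpty {i : ι // 0 = d} := ⟨fun i => h i.2.symm⟩
    rw [Nat.card_of_isEmpty]; rfl

/-- `ℕ` with weight `k + a`. -/
theorem cnt_nat (a : ℕ) : Cnt (fun k : ℕ => k + a) ((PowerSeries.mk fun _ => (1 : ℤ)) * X ^ a) := by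
  refine ⟨fun d => ?_, fun d => ?_⟩
  · haveI : Subsingleton {k : ℕ // k + a = d} := ⟨fun i j => Subtype.ext (by have := i.2; have := j.2; omega)⟩
    infer_instance
  · rw [coeff_mul_X_pow']
    split_ifs with h
    · rw [coeff_mk]
      haveI : Unique {k : ℕ // k + a = d} :=
        { default := ⟨d - a, by omega⟩
          uniq := fun i => Subtype.ext (by have := i.2; change i.1 = d - a; omega) }
      rw [Nat.card_unique]; rfl
    · haveI : IsEmpty {k : ℕ // k + a = d} := ⟨fun i => h (by have := i.2; omega)⟩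
      rw [Nat.card_of_isEmpty]; rfl

/-- `Fin n → ℕ` with weight the sum. -/
theorem cnt_pi (n : ℕ) : Cnt (fun f : Fin n → ℕ => ∑ i, f i) ((PowerSeries.mk fun _ => (1 : ℤ)) ^ n) := by
  induction n with
  | zero =>
    have h := cnt_zero (Fin 0 → ℕ)
    have e : C ((Nat.card (Fin 0 → ℕ) : ℕ) : ℤ) = ((PowerSeries.mk fun _ => (1 : ℤ)) ^ 0) := by
      rw [Nat.card_unique, pow_zero]; simp
    rw [e] at h
    exact h.equiv (Equiv.refl _) (fun f => by simp)
  | succ n ih =>
    have h := (cnt_nat 0).prod ih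
    rw [pow_zero, mul_one, ← pow_succ'] at h
    refine h.equiv (Fin.consEquiv (fun _ : Fin (n + 1) => ℕ)).symm (fun f => ?_)
    rw [Fin.sum_univ_succ]
    rfl

section idx
open W4c5m1nsnscurves

instance (m : ℕ) : Finite (CVar m) := by
  let e : CVar m → Option (Option (Fin m)) := fun y => match y with
    | .x2 => none
    | .x3 => some none
    | .xi i => some (some i)
  refine Finite.of_injective e ?_
  rintro (_ | _ | i) (_ | _ | j) h <;> simp [e] at h ⊢
  exact h

theorem card_cvar (m : ℕ) : Nat.card (CVar m) = m + 2 := by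
  let e : CVar m ≃ Option (Option (Fin m)) :=
    { toFun := fun y => match y with
        | .x2 => none
        | .x3 => some none
        | .xi i => some (some i)
      invFun := fun y => match y with
        | none => .x2
        | some none => .x3
        | some (some i) => .xi i
      left_inv := by rintro (_ | _ | i) <;> rfl
      right_inv := by rintro (_ | _ | i) <;> rfl }
  rw [Nat.card_congr e, Nat.card_eq_fintype_card]
  simp

/-- The weights of the normal monomials. -/
def cwt {m : ℕ} : Option (ℕ ⊕ (CVar m × ℕ)) → ℕ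
  | none => 0
  | some (Sum.inl k) => k + 2
  | some (Sum.inr (_, k)) => k + 1

theorem cnt_cwt (m : ℕ) : Cnt (cwt (m := m))
    ((PowerSeries.mk fun _ => (1 : ℤ)) * (1 + C ((m + 1 : ℕ) : ℤ) * X + X ^ 2)) := by
  have h1 := (cnt_nat 2).sum ((cnt_zero (CVar m)).prod (cnt_nat 1))
  have h2 := h1.sum (cnt_zero Unit)
  have h3 := h2.equiv (κ := Option (ℕ ⊕ (CVar m × ℕ))) (w' := cwt) (Equiv.optionEquivSumPUnit _) (by
    rintro (_ | k | ⟨y, k⟩)
    · rfl
    · rfl
    · simp [cwt])
  have key : (PowerSeries.mk fun _ => (1 : ℤ)) * (1 + C ((m + 1 : ℕ) : ℤ) * X + X ^ 2) =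
      (PowerSeries.mk fun _ => (1 : ℤ)) * X ^ 2 + C ((Nat.card (CVar m) : ℕ) : ℤ) * ((PowerSeries.mk fun _ => (1 : ℤ)) * X ^ 1) +
        C ((Nat.card Unit : ℕ) : ℤ) := by
    have e : (PowerSeries.mk fun _ => (1 : ℤ)) * (1 - X) = 1 := mk_one_mul_one_sub_eq_one ℤ
    rw [card_cvar, Nat.card_unique]
    have e1 : C (((m + 2 : ℕ) : ℕ) : ℤ) = C ((m + 1 : ℕ) : ℤ) + 1 := by
      rw [← map_one (C (R := ℤ)), ← map_add]; congr 1
    rw [e1, Nat.cast_one, map_one]
    linear_combination e
  rw [key]
  exact h3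

end idx

section graded
variable {A : Type u} [AddCommGroup A] {piece : ℕ → Submodule ℤ A}

theorem finrank_piece (hint : DirectSum.IsInternal piece) {ι : Type} (B : Module.Basis ι ℤ A) (w : ι → ℕ)
    (hB : ∀ i, B i ∈ piece (w i)) (d : ℕ) (hfin : Finite {i // w i = d}) :
    Module.finrank ℤ (piece d) = Nat.card {i // w i = d} := by
  classical
  letI := hint.chooseDecomposition
  haveI := Fintype.ofFinite {i // w i = d}
  have hspan : piece d = Submodule.span ℤ (Set.range (fun i : {i // w i = d} => B i.1)) := by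
    apply le_antisymm
    · intro x hx
      have h1 : (DirectSum.decompose piece x d : A) = x := DirectSum.decompose_of_mem_same piece hx
      rw [← h1, ← B.linearCombination_repr x, Finsupp.linearCombination_apply, Finsupp.sum,
        DirectSum.decompose_sum, DFinsupp.finsetSum_apply, AddSubmonoidClass.coe_finsetSum]
      refine Submodule.sum_mem _ fun i _ => ?_
      by_cases h : w i = d
      · have h2 : (B.repr x) i • B i ∈ piece d := Submodule.smul_mem _ _ (h ▸ hB i)
        rw [DirectSum.decompose_of_mem_same piece h2]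
        exact Submodule.smul_mem _ _ (Submodule.subset_span ⟨⟨i, h⟩, rfl⟩)
      · have h2 : (B.repr x) i • B i ∈ piece (w i) := Submodule.smul_mem _ _ (hB i)
        rw [DirectSum.decompose_of_mem_ne piece h2 h]
        exact zero_mem _
    · rw [Submodule.span_le]
      rintro _ ⟨⟨i, rfl⟩, rfl⟩
      exact hB i
  rw [hspan, finrank_span_eq_card, Nat.card_eq_fintype_card]
  exact B.linearIndependent.comp _ Subtype.val_injective

end graded

end K332.Cnt
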