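import Groth.Agent.S10945
import Groth.Agent.S10869
import Groth.Agent.S0824
import Groth.Agent.CurvesC.FlasqueCoker
import Groth.Agent.S0453
import Groth.Agent.Fga.EulerLEAdd
import Groth.Agent.Flat2F.HHSeq
import Groth.Agent.CohqB.TwistMono
import Groth.Agent.CohqB.LocalQC
import Groth.Agent.CohqB.DiscSupp
import Groth.Agent.Sga67.CohBasic
import Groth.Agent.Sga67.LocBasisOps
import Groth.Agent.Sga67.TensorOps
import Groth.Agent.Dcoh.FlatSES
import Groth.Agent.Dcoh.StalkT
import Groth.Agent.Dcoh.Spread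
import Groth.Agent.PerfA.CohSerre
import Groth.Agent.VarietyA.GlobGen
import Groth.Agent.VarietyA.StalkCrit
import Groth.Agent.Ega2.H287.FinGenFree
import Groth.Agent.Ega2.Tens

/-!
# Deformation ample sheaves in dimension one: general cohomological lemmas

`X` Noetherian of dimension `≤ 1`.

* `H1_of_epi`: `H¹` is right exact.
* `H1_of_gg`: quotients of finite free modules have no `H¹` if `O_X` has none.
* `gg_middle`: global generation of extensions.
* `gg_tensor`: tensor products of globally generated modules.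
* `H1_tensor_of_gg`: `H¹(M ⊗ N) = 0` if `M` is coherent and globally generated and `H¹(N) = 0`.
* `H_of_finite_support`: modules with support a finite set of closed points are acyclic.
-/

set_option autoImplicit false
universe u
open CategoryTheory CategoryTheory.Limits AlgebraicGeometry TopologicalSpace Opposite

namespace Groth.Agent.Curves.K332.DefAmp

variable {X : Scheme.{u}}

/-- `H¹` of a quotient. -/
theorem H1_of_epi [IsNoetherian X] (hd : topologicalKrullDim X ≤ (1 : ℕ)) {M N : X.Modules} (p : M ⟶ N) [Epi p]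
    (h : Subsingleton (Coh.HH X M 1)) : Subsingleton (Coh.HH X N 1) :=
  Flat2F.HHSeq.subsingleton_HH_right (VarietyA.StalkCrit.shortExact_kernel p) 1 h
    (Fga.EulerLEAdd.subsingleton_HH X 1 hd _ 2 (by omega))

/-- Vanishing of cohomology of a finite coproduct (any universe for the index). -/
theorem subsingleton_HH_fin {κ : Type} [Finite κ] (M : X.Modules) (p : ℕ)
    (h : Subsingleton (Coh.HH X M p)) : Subsingleton (Coh.HH X (∐ fun _ : κ => M) p) :=
  Flat2F.HHSeq.subsingleton_HH_of_iso
    (Limits.Sigma.whiskerEquiv (f := fun _ : ULift.{u} κ => M) (g := fun _ : κ => M) Equiv.ulift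
      (fun _ => Iso.refl _)) p
    (VarietyA.AmpleNegPow.subsingleton_HH_coprod (κ := ULift.{u} κ) (fun _ => M) p fun _ => h)

/-- `H¹(X, M) = 0` for coherent globally generated `M` when `H¹(X, O) = 0`. -/
theorem H1_of_gg [IsNoetherian X] (hd : topologicalKrullDim X ≤ (1 : ℕ)) {M : X.Modules} (hM : Coh.IsCoh M)
    (hg : Curv2.IsGloballyGenerated M) (h : Subsingleton (Coh.HH X (Coh.structureModule X) 1)) :
    Subsingleton (Coh.HH X M 1) := by
  obtain ⟨N, p, hp⟩ := Ega2.H287.FinGenFree.exists_epi_freeMod hM hg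
  exact H1_of_epi hd p (subsingleton_HH_fin _ 1 h)

/-- the comparison `(∐ O) ⊗ N ≅ ∐ N`. -/
noncomputable def freeTensor (ι : Type u) (N : X.Modules) :
    (DCoh.tensorBi.flip.obj N).obj (∐ fun _ : ι => Coh.structureModule X) ≅ ∐ fun _ : ι => N :=
  (PreservesCoproduct.iso (DCoh.tensorBi.flip.obj N) fun _ : ι => Coh.structureModule X) ≪≫
    Sigma.mapIso fun _ => Ega2.Tens.lunit N

/-- the comparison `(∐ O) ⊗ N ≅ ∐ N`. -/
noncomputable def freeTensorFin (n : ℕ) (N : X.Modules) :
    (DCoh.tensorBi.flip.obj N).obj (∐ fun _ : Fin n => Coh.structureModule X) ≅ ∐ fun _ : Fin n => N :=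
  (PreservesCoproduct.iso (DCoh.tensorBi.flip.obj N) fun _ : Fin n => Coh.structureModule X) ≪≫
    Sigma.mapIso fun _ => Ega2.Tens.lunit N

/-- `H¹(M ⊗ N) = 0` if `M` is coherent and globally generated and `H¹(N) = 0`. -/
theorem H1_tensor_of_gg [IsNoetherian X] (hd : topologicalKrullDim X ≤ (1 : ℕ)) {M : X.Modules}
    (hM : Coh.IsCoh M) (hg : Curv2.IsGloballyGenerated M) (N : X.Modules) (h : Subsingleton (Coh.HH X N 1)) :
    Subsingleton (Coh.HH X (CohB1.tensorMod M N) 1) := by
  obtain ⟨n, p, hp⟩ := Ega2.H287.FinGenFree.exists_epi_freeMod hM hg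
  have he : Epi ((DCoh.tensorBi.flip.obj N).map p) := (DCoh.tensorBi.flip.obj N).map_epi p
  exact @H1_of_epi _ _ hd _ _ ((DCoh.tensorBi.flip.obj N).map p) he
    (Flat2F.HHSeq.subsingleton_HH_of_iso (freeTensorFin n N).symm 1 (subsingleton_HH_fin N 1 h))

/-- coproducts of globally generated modules. -/
theorem gg_sigma (ι : Type u) {N : X.Modules} (h : Curv2.IsGloballyGenerated N) :
    Curv2.IsGloballyGenerated (∐ fun _ : ι => N) := by
  obtain ⟨κ, p, hp⟩ := h
  have h1 : Epi (Limits.Sigma.map (fun _ : ι => p)) := Limits.Sigma.map_epi _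
  let e : (∐ fun _ : ι => (SheafOfModules.free κ : X.Modules)) ≅
      (SheafOfModules.free (Σ _ : ι, κ) : X.Modules) :=
    (Limits.sigmaSigmaIso (fun _ : ι => κ) (fun _ : ι => fun _ : κ => Coh.structureModule X))
  exact ⟨Σ _ : ι, κ, e.inv ≫ Limits.Sigma.map (fun _ : ι => p), @epi_comp _ _ _ _ _ _ inferInstance _ h1⟩

/-- tensor products of globally generated modules are globally generated. -/
theorem gg_tensor {M N : X.Modules} (hM : Curv2.IsGloballyGenerated M) (hN : Curv2.IsGloballyGenerated N) :
    Curv2.IsGloballyGenerated (CohB1.tensorMod M N) := by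
  obtain ⟨ι, p, hp⟩ := hM
  have hp' : @Epi X.Modules _ (∐ fun _ : ι => Coh.structureModule X) M p := hp
  have he : Epi ((DCoh.tensorBi.flip.obj N).map (X := ∐ fun _ : ι => Coh.structureModule X) p) :=
    (DCoh.tensorBi.flip.obj N).map_epi (X := ∐ fun _ : ι => Coh.structureModule X) p
  have h1 : Curv2.IsGloballyGenerated ((DCoh.tensorBi.flip.obj N).obj (∐ fun _ : ι => Coh.structureModule X)) :=
    Ega2.GlobGenCrit.isGloballyGenerated_of_iso (freeTensor ι N).symm (gg_sigma ι hN)
  exact @S10869.isGloballyGenerated_of_epi _ _ _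
    ((DCoh.tensorBi.flip.obj N).map (X := ∐ fun _ : ι => Coh.structureModule X) p) he h1

/-- global generation of extensions. -/
theorem gg_middle {S : ShortComplex X.Modules} (hS : S.ShortExact) (h : Subsingleton (Coh.HH X S.X₁ 1))
    (h1 : Curv2.IsGloballyGenerated S.X₁) (h3 : Curv2.IsGloballyGenerated S.X₃) :
    Curv2.IsGloballyGenerated S.X₂ :=
  S10945.result X S hS (CohqB.TwistMono.surjective_of_H1 hS h) h1 h3

/-- Modules supported on a finite set of closed points are acyclic. -/
theorem H_of_finite_support (M : X.Modules) {Z : Set X} (hZ : Z.Finite) (hc : ∀ x ∈ Z, IsClosed ({x} : Set X))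
    (hM : CohB1.support M ⊆ Z) (i : ℕ) (hi : 0 < i) : Subsingleton (Coh.HH X M i) := by
  obtain ⟨n, rfl⟩ := Nat.exists_eq_succ_of_ne_zero hi.ne'
  have hfl : TopCat.Sheaf.IsFlasque (X := (X : TopCat.{u})) (Coh.toAb M) := by
    refine Groth.Agent.CurvesC.FlasqueCoker.isFlasque_of_support _ Z ?_ ?_
    · intro T hT
      have h1 : T = ⋃ x ∈ T, {x} := (Set.biUnion_of_singleton T).symm
      rw [h1]
      exact (hZ.subset hT).isClosed_biUnion fun x hx => hc x (hT hx)
    · intro U hU s
      have : Subsingleton Γ(M, U) := CohqB.LocalQC.subsingleton_sections U fun x hx ↦ by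
        by_contra hcon
        exact Set.disjoint_left.mp hU hx (hM hcon)
      exact this.elim _ _
  exact Groth.Agent.S0453.result (X := (X : TopCat.{u})) (Coh.toAb M) n

/-- Modules supported on a finite set of closed points are globally generated. -/
theorem gg_of_finite_support (M : X.Modules) {Z : Set X} (hZ : Z.Finite) (hc : ∀ x ∈ Z, IsClosed ({x} : Set X))
    (hM : CohB1.support M ⊆ Z) : Curv2.IsGloballyGenerated M :=
  VarietyA.GlobGen.isGloballyGenerated_of_finite M hZ hc fun x hx =>
    (VarietyA.StalkCrit.not_mem_support_iff M x).mp fun h => hx (hM h)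

theorem gg_structure : Curv2.IsGloballyGenerated (Coh.structureModule X) :=
  ⟨PUnit, Limits.Sigma.desc fun _ => 𝟙 (Coh.structureModule X),
    @epi_of_epi_fac X.Modules _ _ _ _ (Limits.Sigma.ι (fun _ : PUnit => Coh.structureModule X) PUnit.unit) _
      (𝟙 (Coh.structureModule X)) inferInstance (Limits.Sigma.ι_desc _ _)⟩

/-- The support of `M ⊗ N` is contained in the support of `M`. -/
theorem support_tensorMod_subset (M N : X.Modules) : CohB1.support (CohB1.tensorMod M N) ⊆ CohB1.support M := by
  intro x hx hM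
  apply hx
  have h1 := (Dcoh.Stalk.tensorStalkIso M N x).toLinearEquiv.toEquiv.subsingleton_congr
  have h2 : Subsingleton (MonoidalCategory.tensorObj ((Dcoh.Stalk.stalkF x).obj M) ((Dcoh.Stalk.stalkF x).obj N) :
      ModuleCat _) := by
    have : Subsingleton ((Dcoh.Stalk.stalkF x).obj M) := hM
    exact inferInstanceAs (Subsingleton
      (TensorProduct (X.presheaf.stalk x) ((Dcoh.Stalk.stalkF x).obj M) ((Dcoh.Stalk.stalkF x).obj N)))
  exact h1.2 h2

theorem flf_tensorPow {M : X.Modules} (hM : FlatMod.IsFinLocFree M) (n : ℕ) :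
    FlatMod.IsFinLocFree (CohB1.tensorPow M n) := by
  induction n with
  | zero => exact Sga67.TensorOps.isFinLocFree_structureModule
  | succ n ih => exact Sga67.LocBasis.isFinLocFree_tensorMod ih hM

section Torsion

variable [IsNoetherian X] (hd : topologicalKrullDim X ≤ (1 : ℕ)) {E₁ E₂ : X.Modules} (hc1 : Coh.IsCoh E₁)
  (hc2 : Coh.IsCoh E₂) (φ : E₁ ⟶ E₂) (htors : ∀ x ∈ CohB1.support (cokernel φ), IsClosed ({x} : Set X))

include hc1 hc2 htors

theorem finite_support_cokernel : (CohB1.support (cokernel φ)).Finite :=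
  CohqB.DiscSupp.finite_of_isClosed_points _
    (VarietyA.GlobGen.isClosed_support _ (Sga67.CohBasic.isCoh_cokernel φ hc1.1 hc2).2) htors

include hd

theorem gg_of_torsion_cokernel (hg : Curv2.IsGloballyGenerated E₁)
    (h : Subsingleton (Coh.HH X (Coh.structureModule X) 1)) : Curv2.IsGloballyGenerated E₂ := by
  have hS := VarietyA.StalkCrit.shortExact_kernel (cokernel.π φ)
  have hI : Subsingleton (Coh.HH X (Abelian.image φ) 1) :=
    H1_of_epi hd (Abelian.factorThruImage φ) (H1_of_gg hd hc1 hg h)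
  have hgI : Curv2.IsGloballyGenerated (Abelian.image φ) :=
    S10869.isGloballyGenerated_of_epi (Abelian.factorThruImage φ) hg
  exact gg_middle hS hI hgI (gg_of_finite_support _ (finite_support_cokernel hc1 hc2 φ htors) htors le_rfl)

theorem H1_tensor_of_torsion_cokernel (W : X.Modules)
    (h : Subsingleton (Coh.HH X (CohB1.tensorMod E₁ W) 1)) : Subsingleton (Coh.HH X (CohB1.tensorMod E₂ W) 1) := by
  let F := DCoh.tensorBi.flip.obj W
  let ψ : F.obj E₁ ⟶ F.obj E₂ := F.map φ
  have hS := VarietyA.StalkCrit.shortExact_kernel (cokernel.π ψ)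
  have hI : Subsingleton (Coh.HH X (Abelian.image ψ) 1) :=
    H1_of_epi hd (Abelian.factorThruImage ψ) h
  have hsub : CohB1.support (cokernel ψ) ⊆ CohB1.support (cokernel φ) := by
    rw [← VarietyA.StalkCrit.support_eq_of_iso (PreservesCokernel.iso F φ)]
    exact support_tensorMod_subset _ _
  exact Flat2F.HHSeq.subsingleton_HH_middle hS 1 hI
    (H_of_finite_support _ (finite_support_cokernel hc1 hc2 φ htors) htors hsub 1 one_pos)

end Torsion

end Groth.Agent.Curves.K332.DefAmp
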