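import Groth.Agent.Curves.K332.DefAmp

/-!
# Vanishing of `H¹(E ⊗ W)` for extensions of finite locally free modules
-/

set_option autoImplicit false
universe u
open CategoryTheory CategoryTheory.Limits AlgebraicGeometry TopologicalSpace Opposite

namespace Groth.Agent.Curves.K332.DefAmp

variable {X : Scheme.{u}}

theorem H1_tensor_middle {S : ShortComplex X.Modules} (hS : S.ShortExact) (h3 : FlatMod.IsFinLocFree S.X₃)
    (W : X.Modules) (h1 : Subsingleton (Coh.HH X (CohB1.tensorMod S.X₁ W) 1))
    (h1' : Subsingleton (Coh.HH X (CohB1.tensorMod S.X₃ W) 1)) :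
    Subsingleton (Coh.HH X (CohB1.tensorMod S.X₂ W) 1) :=
  Flat2F.HHSeq.subsingleton_HH_middle
    (Dcoh.FlatSES.shortExact_tensor hS (Dcoh.Spread.isFlat_of_isFinLocFree h3) W) 1 h1 h1'

end Groth.Agent.Curves.K332.DefAmp
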