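import Groth.Prelude.Def_W4c5m1nsnscurvesU
import Groth.Prelude.Def_W4c5m1nsnscurvesC
import Groth.Prelude.Def_W4c5m1nsnscurvesI
import Mathlib.Tactic.LinearCombination
import Mathlib.Tactic.Ring
/-!
# Basic facts on the rings `URing` and `CurveAlg` of `W4c5m1nsnscurves`

* `UPoint v`: the assignment `v` satisfies the relations of `U_n`.
* `ulift`: the algebra map out of `URing` attached to a `UPoint`.
* `clift`: the algebra map out of `CurveAlg`.
-/
set_option autoImplicit false
set_option linter.all false
universe u v

open MvPolynomial W4c5m1nsnscurves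

namespace K332.UBasic

/-- The relations of `U_n` for an assignment `v` of the generators with values in a commutative ring. -/
structure UPoint {S : Type v} [CommRing S] {m : ℕ} (v : UGen m → S) : Prop where
  lin : ∀ (i j : Fin m) (h : i ≠ j) (h' : j ≠ i), v (.cij i j h) + v (.cij j i h') =
    v .a + v (.ci i) + v (.cbi i) + v (.ci j) + v (.cbi j)
  hc : ∀ (i j : Fin m) (h : i ≠ j) (h' : j ≠ i), v .c =
    v (.cij j i h') * v (.ci j) + v (.cij i j h) * v (.ci i) - v (.ci i) * v (.ci j)
  hcb : ∀ (i j : Fin m) (h : i ≠ j) (h' : j ≠ i), v .cb =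
    v (.cij j i h') * v (.cbi i) + v (.cij i j h) * v (.cbi j) - v (.cbi i) * v (.cbi j)
  tri : ∀ (i j k : Fin m) (hij : i ≠ j) (hji : j ≠ i) (hjk : j ≠ k) (hik : i ≠ k), v .c =
    v (.cij i j hij) * v (.cij j k hjk) + v (.cij j i hji) * v (.cij i k hik) -
      v (.cij i k hik) * v (.cij j k hjk) + (v .a + v (.ci k) + v (.cbi k)) * v (.ci k)

theorem UPoint.map {S : Type v} [CommRing S] {T : Type*} [CommRing T] (f : S →+* T) {m : ℕ} {v : UGen m → S}
    (hv : UPoint v) : UPoint (fun g => f (v g)) where
  lin i j h h' := by
    have := congrArg f (hv.lin i j h h'); simpa only [map_add] using this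
  hc i j h h' := by
    have := congrArg f (hv.hc i j h h'); simpa only [map_add, map_mul, map_sub] using this
  hcb i j h h' := by
    have := congrArg f (hv.hcb i j h h'); simpa only [map_add, map_mul, map_sub] using this
  tri i j k hij hji hjk hik := by
    have := congrArg f (hv.tri i j k hij hji hjk hik)
    simpa only [map_add, map_mul, map_sub] using this

theorem UPoint.castSucc {S : Type v} [CommRing S] {m : ℕ} {v : UGen (m + 1) → S}
    (hv : UPoint v) : UPoint (fun g : UGen m => v g.castSucc) where
  lin i j h h' := hv.lin _ _ _ _
  hc i j h h' := hv.hc _ _ _ _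
  hcb i j h h' := hv.hcb _ _ _ _
  tri i j k hij hji hjk hik := hv.tri _ _ _ _ _ _ _

theorem upoint_iff {R : Type u} [CommRing R] {S : Type v} [CommRing S] [Algebra R S] {m : ℕ} (v : UGen m → S) :
    UPoint v ↔ ∀ p ∈ URel R m, aeval v p = 0 := by
  constructor
  · intro hv p hp
    rcases hp with ((⟨q, rfl⟩ | ⟨q, rfl⟩) | ⟨q, rfl⟩) | ⟨q, rfl⟩
    · simp only [map_sub, map_add, aeval_X]
      rw [hv.lin, sub_self]
    · simp only [map_sub, map_add, map_mul, aeval_X]
      rw [hv.hc q.1.1 q.1.2 q.2 (Ne.symm q.2)]; ring
    · simp only [map_sub, map_add, map_mul, aeval_X]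
      rw [hv.hcb q.1.1 q.1.2 q.2 (Ne.symm q.2)]; ring
    · simp only [map_sub, map_add, map_mul, aeval_X]
      rw [hv.tri q.1.1 q.1.2.1 q.1.2.2 q.2.1 (Ne.symm q.2.1) q.2.2.1 q.2.2.2]; ring
  · intro hp
    refine ⟨fun i j h h' => ?_, fun i j h h' => ?_, fun i j h h' => ?_, fun i j k hij hji hjk hik => ?_⟩
    · have := hp _ (Or.inl (Or.inl (Or.inl ⟨⟨(i, j), h⟩, rfl⟩)))
      simp only [map_sub, map_add, aeval_X] at this
      exact sub_eq_zero.mp this
    · have := hp _ (Or.inl (Or.inl (Or.inr ⟨⟨(i, j), h⟩, rfl⟩)))
      simp only [map_sub, map_add, map_mul, aeval_X] at this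
      exact (sub_eq_zero.mp this).symm
    · have := hp _ (Or.inl (Or.inr ⟨⟨(i, j), h⟩, rfl⟩))
      simp only [map_sub, map_add, map_mul, aeval_X] at this
      exact (sub_eq_zero.mp this).symm
    · have := hp _ (Or.inr ⟨⟨(i, j, k), ⟨hij, hjk, hik⟩⟩, rfl⟩)
      simp only [map_sub, map_add, map_mul, aeval_X] at this
      exact (sub_eq_zero.mp this).symm

theorem upoint_iff_eval {R : Type u} [CommRing R] {m : ℕ} (v : UGen m → R) :
    UPoint v ↔ ∀ p ∈ URel R m, MvPolynomial.eval v p = 0 := by
  rw [upoint_iff (R := R)]
  simp only [MvPolynomial.aeval_eq_eval, MvPolynomial.coe_aeval_eq_eval]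

section
variable (R : Type u) [CommRing R] (m : ℕ)

theorem upoint_ugen : UPoint (ugen R m) := by
  rw [upoint_iff (R := R)]
  intro p hp
  have h1 : aeval (ugen R m) p = Ideal.Quotient.mkₐ R (Ideal.span (URel R m)) p := by
    have : aeval (ugen R m) = Ideal.Quotient.mkₐ R (Ideal.span (URel R m)) := by
      apply MvPolynomial.algHom_ext
      intro g
      simp [ugen]
    rw [this]
  rw [h1]
  exact Ideal.Quotient.eq_zero_iff_mem.mpr (Ideal.subset_span hp)

variable {R m}

/-- The algebra map out of `URing R m` given by a point. -/
noncomputable def ulift {S : Type v} [CommRing S] [Algebra R S] (v : UGen m → S) (hv : UPoint v) :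
    URing R m →ₐ[R] S :=
  Ideal.Quotient.liftₐ (Ideal.span (URel R m)) (aeval v) (fun p hp => by
    have : Ideal.span (URel R m) ≤ RingHom.ker (aeval v : MvPolynomial (UGen m) R →ₐ[R] S) :=
      Ideal.span_le.mpr fun q hq => (upoint_iff (R := R) v).mp hv q hq
    exact this hp)

@[local simp] theorem ulift_ugen {S : Type v} [CommRing S] [Algebra R S] (v : UGen m → S) (hv : UPoint v) (g : UGen m) :
    ulift (R := R) v hv (ugen R m g) = v g := by
  have : ulift (R := R) v hv (ugen R m g) = aeval v (X g : MvPolynomial (UGen m) R) := rfl
  rw [this, aeval_X]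

theorem uhom_ext {S : Type v} [CommRing S] [Algebra R S] {f g : URing R m →ₐ[R] S}
    (h : ∀ x : UGen m, f (ugen R m x) = g (ugen R m x)) : f = g := by
  apply Ideal.Quotient.algHom_ext
  apply MvPolynomial.algHom_ext
  intro x
  exact h x

/-- Every ring map out of `URing R m` is determined by the constants and the generators. -/
theorem uringHom_ext {S : Type v} [CommRing S] {f g : URing R m →+* S}
    (h0 : ∀ r : R, f (algebraMap R (URing R m) r) = g (algebraMap R (URing R m) r))
    (h : ∀ x : UGen m, f (ugen R m x) = g (ugen R m x)) : f = g := by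
  apply Ideal.Quotient.ringHom_ext
  apply MvPolynomial.ringHom_ext
  · intro r; exact h0 r
  · intro x; exact h x

@[simp] theorem uincl_ugen (g : UGen m) : uincl R m (ugen R m g) = ugen R (m + 1) g.castSucc := by
  have : uincl R m (ugen R m g) =
      Ideal.Quotient.mkₐ R (Ideal.span (URel R (m + 1))) (rename UGen.castSucc (X g)) := rfl
  rw [this, rename_X]
  rfl
end

section curve

/-- The relations of the affine curve with constants `v`, for an assignment `x` of the variables. -/
structure CPoint {S : Type v} [CommRing S] {m : ℕ} (v : UGen m → S) (x : CVar m → S) : Prop where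
  r2 : ∀ i : Fin m, x .x2 * x (.xi i) =
    x .x2 * x .x3 + v (.ci i) * x (.xi i) + v (.cbi i) * x .x2 - v .c
  r3 : ∀ i : Fin m, x .x3 * x (.xi i) =
    x .x2 * x .x3 + (v .a + v (.ci i) + v (.cbi i)) * (x (.xi i) - v (.cbi i)) + v .cb - v .c
  rij : ∀ (i j : Fin m) (h : i ≠ j) (h' : j ≠ i), x (.xi i) * x (.xi j) =
    x .x2 * x .x3 + v (.cij i j h) * x (.xi j) + v (.cij j i h') * x (.xi i) - v .c

theorem CPoint.map {S : Type v} [CommRing S] {T : Type*} [CommRing T] (f : S →+* T) {m : ℕ} {v : UGen m → S}
    {x : CVar m → S} (hx : CPoint v x) : CPoint (fun g => f (v g)) (fun y => f (x y)) where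
  r2 i := by
    have := congrArg f (hx.r2 i); simpa only [map_add, map_mul, map_sub] using this
  r3 i := by
    have := congrArg f (hx.r3 i); simpa only [map_add, map_mul, map_sub] using this
  rij i j h h' := by
    have := congrArg f (hx.rij i j h h'); simpa only [map_add, map_mul, map_sub] using this

variable {R : Type u} [CommRing R] {m : ℕ} (w : UGen m → R)

theorem cpoint_iff {S : Type v} [CommRing S] [Algebra R S] (x : CVar m → S) :
    CPoint (fun g => algebraMap R S (w g)) x ↔ ∀ p ∈ CRel R m w, aeval x p = 0 := by
  constructor
  · intro hx p hp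
    rcases hp with (⟨i, rfl⟩ | ⟨i, rfl⟩) | ⟨q, rfl⟩
    · simp only [map_sub, map_add, map_mul, aeval_X, MvPolynomial.aeval_C]
      rw [hx.r2]; ring
    · simp only [map_sub, map_add, map_mul, aeval_X, MvPolynomial.aeval_C]
      rw [hx.r3]; ring
    · simp only [map_sub, map_add, map_mul, aeval_X, MvPolynomial.aeval_C]
      rw [hx.rij q.1.1 q.1.2 q.2 (Ne.symm q.2)]; ring
  · intro hp
    refine ⟨fun i => ?_, fun i => ?_, fun i j h h' => ?_⟩
    · have := hp _ (Or.inl (Or.inl ⟨i, rfl⟩))
      simp only [map_sub, map_add, map_mul, aeval_X, MvPolynomial.aeval_C] at this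
      exact sub_eq_zero.mp this
    · have := hp _ (Or.inl (Or.inr ⟨i, rfl⟩))
      simp only [map_sub, map_add, map_mul, aeval_X, MvPolynomial.aeval_C] at this
      exact sub_eq_zero.mp this
    · have := hp _ (Or.inr ⟨⟨(i, j), h⟩, rfl⟩)
      simp only [map_sub, map_add, map_mul, aeval_X, MvPolynomial.aeval_C] at this
      exact sub_eq_zero.mp this

/-- The class of a variable in the curve algebra. -/
noncomputable def cvar (y : CVar m) : CurveAlg R m w := Ideal.Quotient.mk (Ideal.span (CRel R m w)) (X y)

theorem cpoint_cvar : CPoint (fun g => algebraMap R (CurveAlg R m w) (w g)) (cvar w) := by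
  rw [cpoint_iff]
  intro p hp
  have h1 : aeval (cvar w) p = Ideal.Quotient.mkₐ R (Ideal.span (CRel R m w)) p := by
    have : aeval (cvar w) = Ideal.Quotient.mkₐ R (Ideal.span (CRel R m w)) := by
      apply MvPolynomial.algHom_ext
      intro g
      simp [cvar]
    rw [this]
  rw [h1]
  exact Ideal.Quotient.eq_zero_iff_mem.mpr (Ideal.subset_span hp)

variable {w}

/-- The algebra map out of `CurveAlg R m w` given by a point. -/
noncomputable def clift {S : Type v} [CommRing S] [Algebra R S] (x : CVar m → S)
    (hx : CPoint (fun g => algebraMap R S (w g)) x) :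
    CurveAlg R m w →ₐ[R] S :=
  Ideal.Quotient.liftₐ (Ideal.span (CRel R m w)) (aeval x) (fun p hp => by
    have : Ideal.span (CRel R m w) ≤ RingHom.ker (aeval x : MvPolynomial (CVar m) R →ₐ[R] S) :=
      Ideal.span_le.mpr fun q hq => (cpoint_iff w x).mp hx q hq
    exact this hp)

theorem clift_cvar {S : Type v} [CommRing S] [Algebra R S] (x : CVar m → S)
    (hx : CPoint (fun g => algebraMap R S (w g)) x) (y : CVar m) :
    clift x hx (cvar w y) = x y := by
  have : clift x hx (cvar w y) = aeval x (X y : MvPolynomial (CVar m) R) := rfl
  rw [this, aeval_X]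

theorem chom_ext {S : Type v} [CommRing S] [Algebra R S] {f g : CurveAlg R m w →ₐ[R] S}
    (h : ∀ y : CVar m, f (cvar w y) = g (cvar w y)) : f = g := by
  apply Ideal.Quotient.algHom_ext
  apply MvPolynomial.algHom_ext
  intro x
  exact h x

theorem cringHom_ext {S : Type v} [CommRing S] {f g : CurveAlg R m w →+* S}
    (h0 : ∀ r : R, f (algebraMap R (CurveAlg R m w) r) = g (algebraMap R (CurveAlg R m w) r))
    (h : ∀ x : CVar m, f (cvar w x) = g (cvar w x)) : f = g := by
  apply Ideal.Quotient.ringHom_ext
  apply MvPolynomial.ringHom_ext
  · intro r; exact h0 r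
  · intro x; exact h x

end curve

section ext
variable {S : Type v} [CommRing S] {m : ℕ}

/-- Extend an assignment of the generators of `U_n` by a point of the curve: `s, t` are the values of
`c_{n+1}, c̄_{n+1}` and `z i` that of `c_{i,n+1}`. -/
noncomputable def uext (v : UGen m → S) (s t : S) (z : Fin m → S) : UGen (m + 1) → S
  | .a => v .a
  | .c => v .c
  | .cb => v .cb
  | .ci i => if hi : i = Fin.last m then s else v (.ci (i.castPred hi))
  | .cbi i => if hi : i = Fin.last m then t else v (.cbi (i.castPred hi))
  | .cij i j h =>
      if hi : i = Fin.last m then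
        (if hj : j = Fin.last m then 0 else
          v .a + v (.ci (j.castPred hj)) + v (.cbi (j.castPred hj)) + s + t - z (j.castPred hj))
      else
        (if hj : j = Fin.last m then z (i.castPred hi) else
          v (.cij (i.castPred hi) (j.castPred hj) (fun e => h (by
            have := congrArg Fin.castSucc e; simpa using this))))

section
variable (v : UGen m → S) (s t : S) (z : Fin m → S)
@[simp] theorem uext_a : uext v s t z .a = v .a := rfl
@[simp] theorem uext_c : uext v s t z .c = v .c := rfl
@[simp] theorem uext_cb : uext v s t z .cb = v .cb := rfl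
@[simp] theorem uext_ci_last : uext v s t z (.ci (Fin.last m)) = s := by simp [uext]
@[simp] theorem uext_ci_cast (i : Fin m) : uext v s t z (.ci i.castSucc) = v (.ci i) := by
  simp [uext, (Fin.castSucc_lt_last i).ne]
@[simp] theorem uext_cbi_last : uext v s t z (.cbi (Fin.last m)) = t := by simp [uext]
@[simp] theorem uext_cbi_cast (i : Fin m) : uext v s t z (.cbi i.castSucc) = v (.cbi i) := by
  simp [uext, (Fin.castSucc_lt_last i).ne]
@[simp] theorem uext_cij_last (i : Fin m) (h : i.castSucc ≠ Fin.last m) :
    uext v s t z (.cij i.castSucc (Fin.last m) h) = z i := by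
  simp [uext, (Fin.castSucc_lt_last i).ne]
@[simp] theorem uext_last_cij (j : Fin m) (h : Fin.last m ≠ j.castSucc) :
    uext v s t z (.cij (Fin.last m) j.castSucc h) = v .a + v (.ci j) + v (.cbi j) + s + t - z j := by
  simp [uext, (Fin.castSucc_lt_last j).ne]
@[simp] theorem uext_cast_cij (i j : Fin m) (h : i.castSucc ≠ j.castSucc) :
    uext v s t z (.cij i.castSucc j.castSucc h) = v (.cij i j (fun e => h (by rw [e]))) := by
  simp [uext, (Fin.castSucc_lt_last j).ne, (Fin.castSucc_lt_last i).ne]
end

/-- Every solution of the relations of `U_{n+1}` is an extension. -/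
theorem eq_uext {v : UGen (m + 1) → S} (hv : UPoint v) :
    v = uext (fun g => v g.castSucc) (v (.ci (Fin.last m))) (v (.cbi (Fin.last m)))
      (fun i => v (.cij i.castSucc (Fin.last m) (Fin.castSucc_lt_last i).ne)) := by
  funext g
  rcases g with _ | _ | _ | i | i | ⟨i, j, h⟩
  · rfl
  · rfl
  · rfl
  · induction i using Fin.lastCases with
    | last => simp
    | cast i => simp [UGen.castSucc]
  · induction i using Fin.lastCases with
    | last => simp
    | cast i => simp [UGen.castSucc]
  · induction i using Fin.lastCases with
    | last =>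
      induction j using Fin.lastCases with
      | last => exact absurd rfl h
      | cast j =>
        have := hv.lin _ _ h h.symm
        simp [UGen.castSucc]
        linear_combination this
    | cast i =>
      induction j using Fin.lastCases with
      | last => simp
      | cast j => simp [UGen.castSucc]

/-- The variables of the curve at the point with coordinates `s, t, z`. -/
def xext (v : UGen m → S) (s t : S) (z : Fin m → S) : CVar m → S
  | .x2 => s
  | .x3 => v .a + s + t
  | .xi i => z i

/-- The points of `U_{n+1}` are the points of the curve over the points of `U_n` (`n ≥ 4`: for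
`m = 0` the relations do not see the missing cubic relation). -/
theorem upoint_uext {v : UGen m → S} {s t : S} {z : Fin m → S} (hv : UPoint v)
    (hx : CPoint v (xext v s t z)) : UPoint (uext v s t z) where
  lin i j h h' := by
    induction i using Fin.lastCases with
    | last =>
      induction j using Fin.lastCases with
      | last => exact absurd rfl h
      | cast j => simp; ring
    | cast i =>
      induction j using Fin.lastCases with
      | last => simp
      | cast j => simpa using hv.lin i j _ _
  hc i j h h' := by
    induction i using Fin.lastCases with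
    | last =>
      induction j using Fin.lastCases with
      | last => exact absurd rfl h
      | cast j =>
        have := hx.r2 j
        simp only [xext] at this
        simp
        linear_combination this
    | cast i =>
      induction j using Fin.lastCases with
      | last =>
        have := hx.r2 i
        simp only [xext] at this
        simp
        linear_combination this
      | cast j => simpa using hv.hc i j _ _
  hcb i j h h' := by
    induction i using Fin.lastCases with
    | last =>
      induction j using Fin.lastCases with
      | last => exact absurd rfl h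
      | cast j =>
        have h2 := hx.r2 j
        have h3 := hx.r3 j
        simp only [xext] at h2 h3
        simp
        linear_combination h2 - h3
    | cast i =>
      induction j using Fin.lastCases with
      | last =>
        have h2 := hx.r2 i
        have h3 := hx.r3 i
        simp only [xext] at h2 h3
        simp
        linear_combination h2 - h3
      | cast j => simpa using hv.hcb i j _ _
  tri i j k hij hji hjk hik := by
    induction i using Fin.lastCases with
    | last =>
      induction j using Fin.lastCases with
      | last => exact absurd rfl hij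
      | cast j =>
        induction k using Fin.lastCases with
        | last => exact absurd rfl hik
        | cast k =>
          have hne : j ≠ k := fun e => hjk (by rw [e])
          have h2 := hx.rij j k hne hne.symm
          have h3 := hx.r3 j
          have h0 := hv.lin j k hne hne.symm
          have h1 := hv.hc j k hne hne.symm
          have h4 := hv.hcb j k hne hne.symm
          simp only [xext] at h2 h3
          simp
          linear_combination h2 - h3 + (z j + v (.ci k) - v (.cbi j)) * h0 + h1 - h4
    | cast i =>
      induction j using Fin.lastCases with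
      | last =>
        induction k using Fin.lastCases with
        | last => exact absurd rfl hjk
        | cast k =>
          have hne : i ≠ k := fun e => hik (by rw [e])
          have h2 := hx.rij i k hne hne.symm
          have h3 := hx.r3 i
          have h0 := hv.lin i k hne hne.symm
          have h1 := hv.hc i k hne hne.symm
          have h4 := hv.hcb i k hne hne.symm
          simp only [xext] at h2 h3
          simp
          linear_combination h2 - h3 + (z i + v (.ci k) - v (.cbi i)) * h0 + h1 - h4
      | cast j =>
        induction k using Fin.lastCases with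
        | last =>
          have hne : i ≠ j := fun e => hij (by rw [e])
          have h2 := hx.rij i j hne hne.symm
          simp only [xext] at h2
          simp
          linear_combination h2
        | cast k => simpa using hv.tri i j k _ _ _ _

/-- The last coordinates of a point of `U_{n+1}` give a point of the curve. -/
theorem cpoint_of_upoint {v : UGen (m + 1) → S} (hv : UPoint v) :
    CPoint (fun g => v g.castSucc) (xext (fun g => v g.castSucc) (v (.ci (Fin.last m))) (v (.cbi (Fin.last m)))
      (fun i => v (.cij i.castSucc (Fin.last m) (Fin.castSucc_lt_last i).ne))) where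
  r2 i := by
    have h1 := hv.lin i.castSucc (Fin.last m) (Fin.castSucc_lt_last i).ne (Fin.castSucc_lt_last i).ne'
    have h2 := hv.hc i.castSucc (Fin.last m) (Fin.castSucc_lt_last i).ne (Fin.castSucc_lt_last i).ne'
    simp only [xext, UGen.castSucc]
    linear_combination v (.ci (Fin.last m)) * h1 + h2
  r3 i := by
    have h1 := hv.lin i.castSucc (Fin.last m) (Fin.castSucc_lt_last i).ne (Fin.castSucc_lt_last i).ne'
    have h2 := hv.hc i.castSucc (Fin.last m) (Fin.castSucc_lt_last i).ne (Fin.castSucc_lt_last i).ne'
    have h3 := hv.hcb i.castSucc (Fin.last m) (Fin.castSucc_lt_last i).ne (Fin.castSucc_lt_last i).ne'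
    simp only [xext, UGen.castSucc]
    linear_combination (v (.ci (Fin.last m)) - v (.cbi i.castSucc)) * h1 + h2 - h3
  rij i j h h' := by
    have h1 := hv.tri i.castSucc j.castSucc (Fin.last m) (fun e => h (Fin.castSucc_injective _ e))
      (fun e => h' (Fin.castSucc_injective _ e))
      (Fin.castSucc_lt_last j).ne (Fin.castSucc_lt_last i).ne
    simp only [xext, UGen.castSucc]
    linear_combination h1

end ext

end K332.UBasic
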